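import Cfsg.Agent.H715.Mon.Cent
import Cfsg.Agent.H511.Ore.Local
import Cfsg.Agent.BpSpor.MBigEleven

/-!
# The Monster: elements of order 31 (helper562)

* `cardC` : `|C(x)| = 31 * 6`;
* `cardCT` : `|C(x) ∩ C(t)| = 31 * 2` for `t` of the class `2A` commuting with `x`;
* `relF` : `|N(P) : C(P)| = 15`.
-/

set_option autoImplicit false
set_option maxRecDepth 100000

namespace Cfsg.Agent.H562.OreM.Loc31

open Cfsg Subgroup
open Cfsg.Agent.BpSpor.MBigModel
open Cfsg.Agent.H715.Mon.Grp (SThree)
open Cfsg.Agent.SmallSimple.ThetaSetup Cfsg.Agent.SmallSimple.PrimeLocal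

universe u

/-- the numerical condition: the index `e` of `C(P)` in `N(P)` is determined by Sylow's theorem -/
def chk (N p k e : ℕ) : Bool :=
  (N % p == 0) && (N % (p ^ 2) != 0) &&
  ((List.range p).all fun e' => (e' == e) || ((p - 1) % e' != 0) || (N % (p * e' * k) != 0) ||
    ((N / (p * e' * k)) % p != 1))

/-- **The automizer from the order of the centralizer** (Sylow's theorem). -/
theorem relIndex_of {G : Type u} [Group G] [Finite G] [IsSimpleGroup G] (hG : ¬ IsMulCommutative G) {p : ℕ}
    (hpp : p.Prime) {N : ℕ} (hN : Nat.card G = N) {k : ℕ}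
    (hC : ∀ x : G, orderOf x = p → Nat.card (centralizer ({x} : Set G)) = p * k) (e : ℕ)
    (hnum : chk N p k e = true) {P0 : Subgroup G} (hP0 : Nat.card P0 = p) :
    (centralizer (P0 : Set G)).relIndex (normalizer (P0 : Set G)) = e := by
  have hp : Fact p.Prime := ⟨hpp⟩
  obtain ⟨x0, hx0⟩ := exists_prime_orderOf_dvd_card' (G := P0) p (by rw [hP0])
  set x : G := (x0 : G) with hxdef
  have hx : orderOf x = p := by rw [hxdef, Subgroup.orderOf_coe, hx0]
  have hPx0 : zpowers x = P0 := by
    refine Subgroup.eq_of_le_of_card_ge (by rw [zpowers_le]; exact x0.2) ?_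
    rw [Nat.card_zpowers, hx, hP0]
  simp only [chk, Bool.and_eq_true, bne_iff_ne, beq_iff_eq, ne_eq] at hnum
  obtain ⟨⟨hN0, hN1⟩, huniq⟩ := hnum
  have h1 : p ∣ Nat.card G := by rw [hN]; exact Nat.dvd_of_mod_eq_zero hN0
  have h2 : ¬ p ^ 2 ∣ Nat.card G := by
    rw [hN]; exact fun h => hN1 (Nat.mod_eq_zero_of_dvd h)
  have hpg : IsPGroup p (zpowers x) := IsPGroup.of_card (n := 1) (by rw [Nat.card_zpowers, hx, pow_one])
  obtain ⟨P, hxP⟩ := hpg.exists_le_sylow
  have hP : Nat.card P = p := card_of_not_sq_dvd h1 h2 P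
  have hPx : (P : Subgroup G) = zpowers x := by
    have h3 : Nat.card (zpowers x) = Nat.card (P : Subgroup G) := by rw [Nat.card_zpowers, hx]; exact hP.symm
    exact (Subgroup.eq_of_le_of_card_ge hxP h3.ge).symm
  obtain ⟨e', K, hL⟩ := exists_local hG h1 h2 P
  have hCx : centralizer ((P : Subgroup G) : Set G) = centralizer ({x} : Set G) := by
    rw [hPx, SmallSimple.SelfCentPrime.centralizer_zpowers]
  have hCP : Nat.card (centralizer ((P : Subgroup G) : Set G)) = p * k := by rw [hCx, hC x hx]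
  have hKk : Nat.card K = k := by
    have h3 : p * Nat.card K = p * k := by rw [← hL.card_centralizer]; exact hCP
    exact Nat.eq_of_mul_eq_mul_left hp.out.pos h3
  have hN' : Nat.card (normalizer ((P : Subgroup G) : Set G)) = p * e' * k := by
    have := hL.card_normalizer
    rw [hKk] at this
    exact this
  have hrel : (centralizer ((P : Subgroup G) : Set G)).relIndex (normalizer ((P : Subgroup G) : Set G)) = e' := by
    have hle : centralizer ((P : Subgroup G) : Set G) ≤ normalizer ((P : Subgroup G) : Set G) :=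
      centralizer_le_normalizer _
    have h3 := Subgroup.index_mul_card ((centralizer ((P : Subgroup G) : Set G)).subgroupOf
      (normalizer ((P : Subgroup G) : Set G)))
    rw [Nat.card_congr (Subgroup.subgroupOfEquivOfLe hle).toEquiv, hCP, hN'] at h3
    have hk : 0 < k := by rw [← hKk]; exact Nat.card_pos
    have h4 : 0 < p * k := Nat.mul_pos hp.out.pos hk
    apply Nat.eq_of_mul_eq_mul_right h4
    rw [Subgroup.relIndex, h3]; ring
  have hee : e' = e := by
    by_contra hne
    have hlt : e' < p := by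
      have := Nat.le_of_dvd (by have := hp.out.two_le; omega) hL.dvd_pred
      have := hp.out.two_le
      omega
    have h3 := List.all_eq_true.1 huniq e' (List.mem_range.2 hlt)
    have hce := hL.card_eq
    rw [hKk, hN] at hce
    have hpos : 0 < p * e' * k := by
      have hk : 0 < k := by rw [← hKk]; exact Nat.card_pos
      have he1 := hL.one_lt
      exact Nat.mul_pos (Nat.mul_pos hp.out.pos (by omega)) hk
    have h4 : N % (p * e' * k) = 0 := by rw [hce]; exact Nat.mul_mod_left _ _
    have h5 : N / (p * e' * k) = Nat.card (Sylow p G) := by rw [hce]; exact Nat.mul_div_cancel _ hpos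
    have h6 : Nat.card (Sylow p G) % p = 1 := by
      have h7 := card_sylow_modEq_one p G
      have h8 : Nat.card (Sylow p G) % p = 1 % p := h7
      rw [h8, Nat.mod_eq_of_lt hp.out.one_lt]
    have h7 : (p - 1) % e' = 0 := Nat.mod_eq_zero_of_dvd hL.dvd_pred
    simp only [Bool.or_eq_true, beq_iff_eq, bne_iff_ne, ne_eq] at h3
    rcases h3 with ((h3 | h3) | h3) | h3
    · exact hne h3
    · exact h3 h7
    · exact h3 h4
    · rw [h5] at h3; exact h3 h6
  rw [hPx, hPx0] at hrel
  rw [hrel, hee]

theorem notComm : ¬ IsMulCommutative MG := by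
  intro h
  have h1 := center_model
  have h2 : Subgroup.center MG = ⊤ := by
    rw [eq_top_iff]
    intro x _
    rw [mem_center_iff]
    intro g
    exact h.is_comm.comm g x
  rw [h2] at h1
  have h3 := card_M
  have h4 : Nat.card (⊤ : Subgroup MG) = Nat.card MG := card_top
  rw [h1, card_bot] at h4
  omega

/-- **The centralizer.** -/
theorem cardC (h3 : SThree.{0}) {x : MG} (hx : orderOf x = 31) :
    Nat.card (centralizer ({x} : Set MG)) = 31 * 6 := by
  have h := Cfsg.Agent.H715.Mon.Cent.card31 h3 hx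
  rw [h]

/-- **The automizer.** -/
theorem relF (h3 : SThree.{0}) {P : Subgroup MG} (hP : Nat.card P = 31) :
    (centralizer (P : Set MG)).relIndex (normalizer (P : Set MG)) = 15 := by
  have := finite
  have := simple
  exact relIndex_of notComm (by norm_num) card_M (fun x hx => cardC h3 hx) 15 (by decide +kernel) hP

/-- **The centralizer in `C(t)`, `t ∈ 2A`.** -/
theorem cardCT (h3 : SThree.{0}) {x t : MG} (hx : orderOf x = 31) (ht : LThreeB.Row.TA t) (htx : t * x = x * t) :
    Nat.card (centralizer ({x} : Set MG) ⊓ centralizer ({t} : Set MG) : Subgroup MG) = 31 * 2 := by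
  have hfin := finite
  have ht2 : orderOf t = 2 := MThirteen.Row.ta_order ht
  have hc := cardC h3 hx
  -- an element of order 3 of `C(x)` commutes with no involution of `C(x)`
  have h31 : Nat.Prime 31 := by norm_num
  have hsq : ¬ 31 ^ 2 ∣ Nat.card MG := by rw [card_M]; norm_num
  have : Finite Spor.Th := Nat.finite_of_card_ne_zero (by rw [S1700.result.2]; norm_num)
  obtain ⟨v, hv, hvx⟩ := Cfsg.Agent.H715.Mon.Cent.exists_three' h31 (by norm_num) hsq
    (Cfsg.Agent.H715.Mon.Cent.self_of_card h31 (by rw [S1700.result.2]; norm_num)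
      fun y hy => H491.PB.Th.card_thirtyone hy) hx
  set H : Subgroup MG := centralizer ({x} : Set MG) ⊓ centralizer ({t} : Set MG) with hH
  have hdvd : Nat.card H ∣ 31 * 6 := by rw [← hc]; exact card_dvd_of_le inf_le_left
  have hxH : x ∈ H := ⟨mem_centralizer_singleton_iff.2 rfl, mem_centralizer_singleton_iff.2 htx.symm⟩
  have htH : t ∈ H := ⟨mem_centralizer_singleton_iff.2 htx, mem_centralizer_singleton_iff.2 rfl⟩
  have d31 : 31 ∣ Nat.card H := by
    rw [← hx, ← Subgroup.orderOf_mk x hxH]; exact orderOf_dvd_natCard _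
  have d2 : 2 ∣ Nat.card H := by
    rw [← ht2, ← Subgroup.orderOf_mk t htH]; exact orderOf_dvd_natCard _
  have d3 : ¬ 3 ∣ Nat.card H := by
    intro h3d
    have : Fact (Nat.Prime 3) := ⟨Nat.prime_three⟩
    obtain ⟨w0, hw0⟩ := exists_prime_orderOf_dvd_card' (G := H) 3 h3d
    set w : MG := (w0 : MG) with hwdef
    have hw : orderOf w = 3 := by rw [hwdef, Subgroup.orderOf_coe, hw0]
    have hwx : w * x = x * w := mem_centralizer_singleton_iff.1 w0.2.1
    have hwt : w * t = t * w := mem_centralizer_singleton_iff.1 w0.2.2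
    -- conjugacy of the subgroups of order 3 of `C(x)`
    let C := centralizer ({x} : Set MG)
    have hCsq : ¬ 3 ^ 2 ∣ Nat.card C := by rw [hc]; norm_num
    let w1 : C := ⟨w, mem_centralizer_singleton_iff.2 hwx⟩
    let v1 : C := ⟨v, mem_centralizer_singleton_iff.2 hvx.1⟩
    have hw1 : orderOf w1 = 3 := by rw [← hw]; exact Subgroup.orderOf_mk _ _
    have hv1 : orderOf v1 = 3 := by rw [← hv]; exact Subgroup.orderOf_mk _ _
    obtain ⟨g, ⟨n, hn⟩, ⟨m, hm⟩⟩ := Cfsg.Agent.H241.Mon.conj_of_not_sq Nat.prime_three hCsq hv1 hw1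
    -- `g t g⁻¹` commutes with `v` and `x`
    have hm' : ((g : MG) * w * (g : MG)⁻¹) ^ m = v := congrArg Subtype.val hm
    have c1 : Commute ((g : MG) * t * (g : MG)⁻¹) v := by
      rw [← hm']
      refine Commute.zpow_right ?_ m
      show (g : MG) * t * (g : MG)⁻¹ * ((g : MG) * w * (g : MG)⁻¹) = (g : MG) * w * (g : MG)⁻¹ * ((g : MG) * t * (g : MG)⁻¹)
      calc (g : MG) * t * (g : MG)⁻¹ * ((g : MG) * w * (g : MG)⁻¹) = g * (t * w) * (g : MG)⁻¹ := by group
        _ = g * (w * t) * (g : MG)⁻¹ := by rw [hwt]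
        _ = _ := by group
    have hgx : (g : MG) * x = x * g := mem_centralizer_singleton_iff.1 g.2
    have c2 : (g : MG) * t * (g : MG)⁻¹ * x = x * ((g : MG) * t * (g : MG)⁻¹) := by
      have h1 : Commute (g : MG) x := hgx
      exact ((h1.mul_left (show Commute t x from htx)).mul_left h1.inv_left).eq
    obtain ⟨i, j, hij⟩ := hvx.2 _ c1.eq c2
    have e1 : ((g : MG) * t * (g : MG)⁻¹) ^ 93 = 1 := by
      rw [hij, (((show Commute v x from hvx.1).zpow_zpow i j)).mul_pow, ← zpow_natCast, ← zpow_natCast, ← zpow_mul,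
        ← zpow_mul, mul_comm i, mul_comm j, zpow_mul, zpow_mul, zpow_natCast, zpow_natCast,
        show 93 = 3 * 31 by norm_num, pow_mul, ← hv, pow_orderOf_eq_one, one_pow, one_zpow, one_mul, mul_comm (orderOf v),
        pow_mul, ← hx, pow_orderOf_eq_one, one_pow, one_zpow]
    have e2 : orderOf ((g : MG) * t * (g : MG)⁻¹) = 2 := by
      rw [Cfsg.Agent.H241.Mon.order_conj]; exact ht2
    have e3 := orderOf_dvd_of_pow_eq_one e1
    rw [e2] at e3
    omega
  obtain ⟨m, hm⟩ := hdvd
  have d62 : 31 * 2 ∣ Nat.card H := Nat.Coprime.mul_dvd_of_dvd_of_dvd (by norm_num) d31 d2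
  obtain ⟨k, hk⟩ := d62
  rw [hk] at hm d3
  have hkm : k * m = 3 := by
    have : 31 * 2 * (k * m) = 31 * 2 * 3 := by rw [← mul_assoc, ← hm]
    exact Nat.eq_of_mul_eq_mul_left (by norm_num) this
  have hk3 : k ∣ 3 := ⟨m, hkm.symm⟩
  rcases (Nat.dvd_prime Nat.prime_three).1 hk3 with rfl | rfl
  · rw [hk]
  · exact absurd (Dvd.intro_left _ rfl) d3

end Cfsg.Agent.H562.OreM.Loc31
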