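import Mathlib.GroupTheory.FiniteAbelian.Duality
import Mathlib.RingTheory.RootsOfUnity.Complex
import Mathlib.RingTheory.RootsOfUnity.AlgebraicallyClosed
import Mathlib.Analysis.Complex.Polynomial.Basic
import Mathlib.GroupTheory.SpecificGroups.Cyclic
import Mathlib.GroupTheory.Sylow

/-!
# Isotropic subgroups of extraspecial groups (helper562)

* `card_mul_card_le` : `N` with `Z(N) = ⟨y⟩ ≥ [N, N]`, `R ≤ N`, `R ∩ ⟨y⟩ = 1`: `|R| ^ 2 |⟨y⟩| ≤ |N|`.
-/

set_option autoImplicit false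

namespace Cfsg.Agent.H562.OreM.Iso

open Subgroup

/-- a finite cyclic group embeds in the multiplicative group of the complex numbers -/
theorem exists_emb {Z : Type*} [Group Z] [Finite Z] [IsCyclic Z] : ∃ j : Z →* ℂˣ, Function.Injective j := by
  classical
  have h0 : Nat.card Z ≠ 0 := Nat.card_pos.ne'
  have : NeZero (Nat.card Z) := ⟨h0⟩
  have hc : Nat.card Z = Nat.card ↥(rootsOfUnity (Nat.card Z) ℂ) := (Complex.card_rootsOfUnity (Nat.card Z)).symm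
  let e : Z ≃* ↥(rootsOfUnity (Nat.card Z) ℂ) := mulEquivOfCyclicCardEq hc
  exact ⟨(rootsOfUnity (Nat.card Z) ℂ).subtype.comp e.toMonoidHom, fun a b h => e.injective (Subtype.ext h)⟩

/-- the number of linear characters -/
theorem card_hom {Q : Type*} [CommGroup Q] [Finite Q] : Nat.card (Q →* ℂˣ) = Nat.card Q := by
  have : NeZero ((Monoid.exponent Q : ℕ) : ℂ) := ⟨Nat.cast_ne_zero.2 Monoid.exponent_ne_zero_of_finite⟩
  exact CommGroup.card_monoidHom_of_hasEnoughRootsOfUnity Q ℂ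

theorem card_mul_card_le {G : Type*} [Group G] [Finite G] {N R : Subgroup G} {y : G} (hy : y ∈ N)
    (hyc : ∀ n ∈ N, n * y = y * n) (hZ : ∀ n ∈ N, (∀ m ∈ N, n * m = m * n) → n ∈ zpowers y)
    (hab : ∀ a ∈ N, ∀ b ∈ N, a * b * a⁻¹ * b⁻¹ ∈ zpowers y) (hR : R ≤ N)
    (hRy : ∀ r ∈ R, r ∈ zpowers y → r = 1) : Nat.card ↥R * orderOf y * Nat.card ↥R ≤ Nat.card ↥N := by
  classical
  have hRc : ∀ a ∈ R, ∀ b ∈ R, a * b = b * a := by
    intro a ha b hb
    have h1 := hRy _ (mul_mem (mul_mem (mul_mem ha hb) (inv_mem ha)) (inv_mem hb)) (hab a (hR ha) b (hR hb))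
    rw [mul_inv_eq_one, mul_inv_eq_iff_eq_mul] at h1
    exact h1
  have hcen : ∀ k ∈ zpowers y, ∀ n ∈ N, n * k = k * n := by
    rintro _ ⟨i, rfl⟩ n hn
    exact ((show Commute n y from hyc n hn).zpow_right i).eq
  -- the commutator map
  have hcom : ∀ n : ↥N, ∀ a b : ↥R, (n : G) * ((a : G) * b) * (n : G)⁻¹ * ((a : G) * b)⁻¹ =
      ((n : G) * a * (n : G)⁻¹ * (a : G)⁻¹) * ((n : G) * b * (n : G)⁻¹ * (b : G)⁻¹) := by
    intro n a b
    have h1 := hcen _ (hab n n.2 b (hR b.2)) a (hR a.2)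
    calc (n : G) * ((a : G) * b) * (n : G)⁻¹ * ((a : G) * b)⁻¹
        = (n : G) * a * (n : G)⁻¹ * (((n : G) * b * (n : G)⁻¹ * (b : G)⁻¹) * (a : G)⁻¹) := by group
      _ = (n : G) * a * (n : G)⁻¹ * ((a : G)⁻¹ * ((n : G) * b * (n : G)⁻¹ * (b : G)⁻¹)) := by
        congr 1
        rw [eq_inv_mul_iff_mul_eq, ← mul_assoc, h1, mul_inv_cancel_right]
      _ = _ := by group
  have hcom' : ∀ m n : ↥N, ∀ a : ↥R, ((m : G) * n) * (a : G) * ((m : G) * n)⁻¹ * (a : G)⁻¹ =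
      ((m : G) * a * (m : G)⁻¹ * (a : G)⁻¹) * ((n : G) * a * (n : G)⁻¹ * (a : G)⁻¹) := by
    intro m n a
    have h1 := hcen _ (hab n n.2 a (hR a.2)) m m.2
    calc ((m : G) * n) * (a : G) * ((m : G) * n)⁻¹ * (a : G)⁻¹
        = ((m : G) * ((n : G) * a * (n : G)⁻¹ * (a : G)⁻¹)) * a * (m : G)⁻¹ * (a : G)⁻¹ := by group
      _ = (((n : G) * a * (n : G)⁻¹ * (a : G)⁻¹) * m) * a * (m : G)⁻¹ * (a : G)⁻¹ := by rw [h1]
      _ = ((n : G) * a * (n : G)⁻¹ * (a : G)⁻¹) * ((m : G) * a * (m : G)⁻¹ * (a : G)⁻¹) := by group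
      _ = _ := by
        have h2 := hcen _ (hab n n.2 a (hR a.2)) ((m : G) * a * (m : G)⁻¹ * (a : G)⁻¹)
          (mul_mem (mul_mem (mul_mem m.2 (hR a.2)) (inv_mem m.2)) (inv_mem (hR a.2)))
        exact h2.symm
  obtain ⟨j, hj⟩ := exists_emb (Z := ↥(zpowers y))
  let Φ : ↥N →* (↥R →* ℂˣ) := MonoidHom.mk' (fun n =>
    MonoidHom.mk' (fun a => j ⟨(n : G) * a * (n : G)⁻¹ * (a : G)⁻¹, hab n n.2 a (hR a.2)⟩)
      fun a b => by rw [← map_mul]; exact congrArg j (Subtype.ext (hcom n a b))) (fun m n => by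
        ext1 a
        show j _ = j _ * j _
        rw [← map_mul]
        exact congrArg j (Subtype.ext (hcom' m n a)))
  have hΦ : ∀ (n : ↥N) (a : ↥R), Φ n a = j ⟨(n : G) * a * (n : G)⁻¹ * (a : G)⁻¹, hab n n.2 a (hR a.2)⟩ := fun _ _ => rfl
  have hfinr : Finite ↥Φ.range := Finite.of_surjective _ Φ.rangeRestrict_surjective
  have h1 : Nat.card ↥N = Nat.card ↥Φ.range * Nat.card ↥Φ.ker := by
    rw [card_eq_card_quotient_mul_card_subgroup Φ.ker,
      Nat.card_congr (QuotientGroup.quotientKerEquivRange Φ).toEquiv]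
  -- `R × ⟨y⟩ ≤ ker Φ`
  have h2 : Nat.card ↥R * orderOf y ≤ Nat.card ↥Φ.ker := by
    rw [← Nat.card_zpowers, ← Nat.card_prod]
    have hmem : ∀ p : ↥R × ↥(zpowers y), (p.1 : G) * p.2 ∈ N := fun p =>
      mul_mem (hR p.1.2) ((zpowers_le.2 hy) p.2.2)
    have hk : ∀ p : ↥R × ↥(zpowers y), (⟨(p.1 : G) * p.2, hmem p⟩ : ↥N) ∈ Φ.ker := by
      intro p
      rw [MonoidHom.mem_ker]
      ext1 a
      rw [hΦ]
      refine (congrArg j (Subtype.ext ?_)).trans (map_one j)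
      show ((p.1 : G) * p.2) * a * ((p.1 : G) * p.2)⁻¹ * (a : G)⁻¹ = 1
      have h3 := hRc _ p.1.2 _ a.2
      have h4 := hcen _ p.2.2 _ (hR a.2)
      rw [mul_inv_eq_one, mul_inv_eq_iff_eq_mul]
      calc ((p.1 : G) * p.2) * a = p.1 * (a * p.2) := by rw [mul_assoc, ← h4]
        _ = a * ((p.1 : G) * p.2) := by rw [← mul_assoc, h3, mul_assoc]
    refine Nat.card_le_card_of_injective (fun p => (⟨⟨(p.1 : G) * p.2, hmem p⟩, hk p⟩ : ↥Φ.ker)) ?_
    rintro ⟨r, k⟩ ⟨r', k'⟩ h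
    have h3 : (r : G) * k = r' * k' := congrArg (fun t : ↥Φ.ker => ((t : ↥N) : G)) h
    have h4 : (r' : G)⁻¹ * r = k' * (k : G)⁻¹ := by
      rw [inv_mul_eq_iff_eq_mul, ← mul_assoc, eq_mul_inv_iff_mul_eq, h3]
    have h5 := hRy _ (mul_mem (inv_mem r'.2) r.2) (h4 ▸ mul_mem k'.2 (inv_mem k.2))
    have h6 : (r : G) = r' := (inv_mul_eq_one.1 h5).symm
    rw [h6] at h3
    exact Prod.ext (Subtype.ext h6) (Subtype.ext (mul_left_cancel h3))
  -- `R ↪ Hom (range Φ, ℂˣ)`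
  have h3 : Nat.card ↥R ≤ Nat.card ↥Φ.range := by
    rw [← card_hom (Q := ↥Φ.range)]
    let E : ↥R → (↥Φ.range →* ℂˣ) := fun a =>
      MonoidHom.mk' (fun φ => (φ : ↥R →* ℂˣ) a) fun _ _ => rfl
    have hfin2 : Finite (↥Φ.range →* ℂˣ) :=
      Nat.finite_of_card_ne_zero (by rw [card_hom]; exact Nat.card_pos.ne')
    refine Nat.card_le_card_of_injective E ?_
    intro a b hab'
    have h4 : ∀ n : ↥N, Φ n a = Φ n b := fun n => DFunLike.congr_fun hab' ⟨Φ n, n, rfl⟩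
    have h5 : ((a : G) * (b : G)⁻¹) = 1 := by
      refine hRy _ (mul_mem a.2 (inv_mem b.2)) (hZ _ (mul_mem (hR a.2) (inv_mem (hR b.2))) fun m hm => ?_)
      have h6 : Φ ⟨m, hm⟩ (a * b⁻¹) = 1 := by
        rw [map_mul, map_inv, h4, mul_inv_cancel]
      rw [hΦ] at h6
      have h7 := hj (h6.trans (map_one j).symm)
      have h8 : m * ((a : G) * (b : G)⁻¹) * m⁻¹ * ((a : G) * (b : G)⁻¹)⁻¹ = 1 := congrArg Subtype.val h7
      rw [mul_inv_eq_one, mul_inv_eq_iff_eq_mul] at h8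
      exact h8.symm
    exact Subtype.ext (mul_inv_eq_one.1 h5)
  rw [h1, mul_comm (Nat.card ↥Φ.range)]
  exact Nat.mul_le_mul h2 h3

/-- an element of `q`-power order is conjugate into a subgroup of index prime to `q` -/
theorem exists_conj_le {G : Type*} [Group G] [Finite G] {p : ℕ} [Fact p.Prime] {T D : Subgroup G} (hT : IsPGroup p ↥T)
    (hD : ¬ p ∣ D.index) : ∃ g : G, ∀ t ∈ T, g * t * g⁻¹ ∈ D := by
  obtain ⟨P, hP⟩ := hT.exists_le_sylow
  obtain ⟨Q⟩ : Nonempty (Sylow p ↥D) := inferInstance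
  -- a Sylow subgroup of `D` is one of `G`
  have hQp : IsPGroup p ↥((Q : Subgroup ↥D).map D.subtype) := Q.2.map _
  have hidx : ¬ p ∣ ((Q : Subgroup ↥D).map D.subtype).index := by
    intro h
    have h1 : ((Q : Subgroup ↥D).map D.subtype).index = (Q : Subgroup ↥D).index * D.index := by
      rw [index_map, MonoidHom.ker_eq_bot_iff D.subtype |>.2 D.subtype_injective, sup_bot_eq, range_subtype]
    rw [h1] at h
    rcases (Nat.Prime.dvd_mul Fact.out).1 h with h2 | h2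
    · exact Q.not_dvd_index h2
    · exact hD h2
  let Q' : Sylow p G := hQp.toSylow hidx
  obtain ⟨g, hg⟩ := MulAction.exists_smul_eq G P Q'
  refine ⟨g, fun t ht => ?_⟩
  have h2 : g * t * g⁻¹ ∈ (g • P : Sylow p G) := by
    rw [Sylow.smul_def]
    exact ⟨t, hP ht, rfl⟩
  rw [hg] at h2
  obtain ⟨q, -, h3⟩ := (show g * t * g⁻¹ ∈ (Q : Subgroup ↥D).map D.subtype from h2)
  rw [← h3]
  exact q.2

/-- **the order of a `p`-subgroup without `p`-central elements** -/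
theorem part_le {G : Type*} [Group G] [Finite G] {p : ℕ} [hp : Fact p.Prime] {y : G} {N D T : Subgroup G}
    (hNn : (N.subgroupOf D).Normal) (hDi : ¬ p ∣ D.index) (hy : y ∈ N)
    (hyc : ∀ n ∈ N, n * y = y * n) (hZ : ∀ n ∈ N, (∀ m ∈ N, n * m = m * n) → n ∈ zpowers y)
    (hab : ∀ a ∈ N, ∀ b ∈ N, a * b * a⁻¹ * b⁻¹ ∈ zpowers y) (hT : IsPGroup p ↥T)
    (hTy : ∀ t ∈ T, ∀ g : G, g * t * g⁻¹ ∈ zpowers y → t = 1) {n m : ℕ}
    (hm : ¬ p ^ (m + 1) ∣ (N.subgroupOf D).index) (hn : Nat.card ↥N < p ^ (2 * (n + 1)) * orderOf y) :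
    Nat.card ↥T ∣ p ^ (n + m) := by
  classical
  obtain ⟨g, hg⟩ := exists_conj_le hT hDi
  let c : G →* G := (MulAut.conj g).toMonoidHom
  have hcg : ∀ t, c t = g * t * g⁻¹ := fun t => rfl
  set T' : Subgroup G := T.map c with hT'
  have hci : Function.Injective c := (MulAut.conj g).injective
  have hT'c : Nat.card ↥T' = Nat.card ↥T := card_map_of_injective hci
  have hT'D : T' ≤ D := by
    rintro _ ⟨t, ht, rfl⟩
    exact hg t ht
  have hT'p : IsPGroup p ↥T' := hT.map c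
  have hT'y : ∀ t ∈ T', t ∈ zpowers y → t = 1 := by
    rintro _ ⟨t, ht, rfl⟩ h
    rw [hTy t ht g h, map_one]
  -- the intersection with `N`
  have h1 := card_mul_card_le (R := T' ⊓ N) hy hyc hZ hab inf_le_right fun r hr => hT'y r hr.1
  have hRp : IsPGroup p ↥(T' ⊓ N : Subgroup G) := hT'p.to_le inf_le_left
  obtain ⟨a, ha⟩ := IsPGroup.iff_card.1 hRp
  have hpos : 0 < orderOf y := orderOf_pos y
  have han : a ≤ n := by
    by_contra hcon
    have h2 : p ^ (n + 1) ≤ Nat.card ↥(T' ⊓ N : Subgroup G) := by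
      rw [ha]; exact Nat.pow_le_pow_right hp.out.pos (by omega)
    have h3 : p ^ (2 * (n + 1)) * orderOf y ≤ Nat.card ↥(T' ⊓ N : Subgroup G) * orderOf y * Nat.card ↥(T' ⊓ N : Subgroup G) := by
      calc p ^ (2 * (n + 1)) * orderOf y = p ^ (n + 1) * orderOf y * p ^ (n + 1) := by ring
        _ ≤ _ := Nat.mul_le_mul (Nat.mul_le_mul_right _ h2) h2
    omega
  -- the quotient
  let q : ↥D →* ↥D ⧸ N.subgroupOf D := QuotientGroup.mk' _
  have hk : (T'.subgroupOf D ⊓ N.subgroupOf D) = (T' ⊓ N).subgroupOf D := rfl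
  have h4 : Nat.card ↥T' = Nat.card ↥((T'.subgroupOf D).map q) * Nat.card ↥(T' ⊓ N : Subgroup G) := by
    let ψ : ↥(T'.subgroupOf D) →* ↥D ⧸ N.subgroupOf D := q.comp (T'.subgroupOf D).subtype
    have h5 : Nat.card ↥(T'.subgroupOf D) = Nat.card ↥ψ.range * Nat.card ↥ψ.ker := by
      rw [card_eq_card_quotient_mul_card_subgroup ψ.ker,
        Nat.card_congr (QuotientGroup.quotientKerEquivRange ψ).toEquiv]
    have h6 : Nat.card ↥(T'.subgroupOf D) = Nat.card ↥T' := Nat.card_congr (subgroupOfEquivOfLe hT'D).toEquiv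
    have h7 : ψ.range = (T'.subgroupOf D).map q := by
      rw [MonoidHom.range_comp, range_subtype]
    have hkm : ∀ t : ↥(T'.subgroupOf D), t ∈ ψ.ker ↔ ((t : ↥D) : G) ∈ N := fun t => by
      rw [MonoidHom.mem_ker]
      exact (QuotientGroup.eq_one_iff (N := N.subgroupOf D) (t : ↥D)).trans mem_subgroupOf
    have h8 : Nat.card ↥ψ.ker = Nat.card ↥(T' ⊓ N : Subgroup G) := by
      refine Nat.card_congr (Equiv.ofBijective (fun k : ↥ψ.ker =>
        (⟨(((k : ↥(T'.subgroupOf D)) : ↥D) : G), (k : ↥(T'.subgroupOf D)).2, (hkm _).1 k.2⟩ :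
          ↥(T' ⊓ N : Subgroup G))) ⟨?_, ?_⟩)
      · intro u v h
        have h9 : (((u : ↥(T'.subgroupOf D)) : ↥D) : G) = (((v : ↥(T'.subgroupOf D)) : ↥D) : G) :=
          congrArg (fun t : ↥(T' ⊓ N : Subgroup G) => (t : G)) h
        exact Subtype.ext (Subtype.ext (Subtype.ext h9))
      · rintro ⟨t, ht1, ht2⟩
        exact ⟨⟨⟨⟨t, hT'D ht1⟩, ht1⟩, (hkm _).2 ht2⟩, rfl⟩
    rw [← h6, h5, h7, h8]
  have hmp : IsPGroup p ↥((T'.subgroupOf D).map q) := by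
    refine IsPGroup.map ?_ q
    exact hT'p.comap_of_injective _ D.subtype_injective
  obtain ⟨b, hb⟩ := IsPGroup.iff_card.1 hmp
  have hbm : b ≤ m := by
    by_contra hcon
    apply hm
    have h5 : Nat.card ↥((T'.subgroupOf D).map q) ∣ (N.subgroupOf D).index := by
      rw [index_eq_card]
      exact card_subgroup_dvd_card _
    rw [hb] at h5
    exact (pow_dvd_pow p (by omega)).trans h5
  rw [← hT'c, h4, ha, hb, ← pow_add]
  exact pow_dvd_pow p (by omega)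

end Cfsg.Agent.H562.OreM.Iso
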