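import Cfsg.Agent.H777.Ore.Base

/-!
# S2443, row M, piece MP6: elements of odd order (helper562)

`odd_of` : elements of 3-power order, bound for the elements of prime order at least 5, sieve.
-/

set_option autoImplicit false

namespace Cfsg.Agent.H562.OreM.Odd

open Subgroup Cfsg.Agent.H777.Ore

universe u

/-- a property of the elements of odd order of a finite group -/
theorem prop_of {G : Type u} [Group G] [Finite G] {K : ℕ} {P : G → Prop}
    (h3 : ∀ g : G, (∃ k, g ^ 3 ^ k = 1) → P g)
    (hB : ∀ q : ℕ, q.Prime → 5 ≤ q → ∀ x : G, orderOf x = q → Nat.card ↥(centralizer ({x} : Set G)) ≤ K)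
    (hS : ∀ g : G, Nat.card ↥(centralizer ({g} : Set G)) ≤ K → P g) {g : G} (ho : Odd (orderOf g)) : P g := by
  by_cases h : ∃ q : ℕ, q.Prime ∧ 5 ≤ q ∧ q ∣ orderOf g
  · obtain ⟨q, hq, hq5, hd⟩ := h
    apply hS
    have h0 : 0 < orderOf g := orderOf_pos g
    have hx : orderOf (g ^ (orderOf g / q)) = q := by
      rw [orderOf_pow_of_dvd (Nat.div_pos (Nat.le_of_dvd h0 hd) hq.pos).ne' (Nat.div_dvd_of_dvd hd),
        Nat.div_div_self hd h0.ne']
    refine le_trans (card_le_of_le ?_) (hB q hq hq5 _ hx)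
    intro c hc
    rw [mem_centralizer_singleton_iff] at hc ⊢
    exact (show Commute c g from hc).pow_right _
  · push Not at h
    refine h3 g ⟨(orderOf g).primeFactorsList.length, ?_⟩
    have h1 : orderOf g = 3 ^ (orderOf g).primeFactorsList.length := by
      have h0 : orderOf g ≠ 0 := (orderOf_pos g).ne'
      refine Nat.eq_prime_pow_of_unique_prime_dvd h0 ?_
      intro q hq hd
      have h2 : ¬ 5 ≤ q := fun h5 => h q hq h5 hd
      have h3 : q ≠ 2 := by
        rintro rfl
        exact (Nat.not_even_iff_odd.2 ho) (even_iff_two_dvd.2 hd)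
      have h4 := hq.two_le
      have h5 : q ≠ 4 := by
        rintro rfl
        exact absurd hq (by decide)
      omega
    rw [← h1, pow_orderOf_eq_one]

/-- **Elements of odd order are commutators.** -/
theorem odd_of {G : Type u} [Group G] [Finite G] {K : ℕ} (h3 : ∀ g : G, (∃ k, g ^ 3 ^ k = 1) → IsC g)
    (hB : ∀ q : ℕ, q.Prime → 5 ≤ q → ∀ x : G, orderOf x = q → Nat.card ↥(centralizer ({x} : Set G)) ≤ K)
    (hS : ∀ g : G, Nat.card ↥(centralizer ({g} : Set G)) ≤ K → IsC g) {g : G} (ho : Odd (orderOf g)) : IsC g :=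
  prop_of h3 hB hS ho

end Cfsg.Agent.H562.OreM.Odd
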