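import Cfsg.Agent.H847.QDeg

/-!
# The values of a representation on `2^(1+24)` (helper562)

`h : Chart Q z eta pi`, `ρ` a complex representation, `y4 ∈ Q` of type 4 conjugate to `z`, `y2 ∈ Q` of type 2:

* degree       `= a + 196584 b + 16775168 c + 16582679 e`;
* `χ(y2)`      `= a + 4072 b - 2048 c - 2025 e`;
* `χ(z)`       `= a - 24 b - 2048 c + 2071 e`

with `a`, `b`, `c`, `e` natural numbers.
-/

set_option autoImplicit false

namespace Cfsg.Agent.H562.OreM.QVal

open Module Cfsg Cfsg.Spor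
open Cfsg.Agent.H847.Avg Cfsg.Agent.H847.QTrace Cfsg.Agent.H847.QDeg
open Cfsg.Agent.H847.Co1Small (sg sg_zero sg_one sg_add sg_sq zcases)
open Cfsg.Agent.MonsterU.Lam2
open Cfsg.Agent.MonsterU.Ch
open Cfsg.Agent.MonsterU.CoFrameL2 (f0)
open Cfsg.Agent.ConwayFacts.NormL2 (ncard_two ncard_three ncard_four isType_f0 ne_zero_of_type)

attribute [local instance] Cfsg.Agent.H847.QTrace.fintypeL2

/-- the sums over the types -/
noncomputable def S (n : ℤ) (x : L2) : ℂ := ∑ v ∈ Tn n, sg (bf v x)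

theorem smul_mem {n : ℤ} (g : Co1) {v : L2} (hv : v ∈ Tn n) : g • v ∈ Tn n :=
  mem_Tn.2 ((mem_Tn.1 hv).smul1 g)

theorem S_smul (n : ℤ) (g : Co1) (x : L2) : S n (g • x) = S n x := by
  unfold S
  refine Finset.sum_bij' (fun v _ => g⁻¹ • v) (fun v _ => g • v) (fun v hv => smul_mem _ hv)
    (fun v hv => smul_mem _ hv) (fun v _ => smul_inv_smul g v) (fun v _ => inv_smul_smul g v) ?_
  intro v _
  rw [← bf_smul1 g (g⁻¹ • v) x, smul_inv_smul]

theorem S_eq (n : ℤ) {k : ℤ} (hk : k = 2 ∨ k = 3 ∨ k = 4) {x y : L2} (hx : IsType k x) (hy : IsType k y) :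
    S n y = S n x := by
  obtain ⟨g, rfl⟩ := IsType.trans hk hx hy
  have := S_smul n (QuotientGroup.mk g) x
  rwa [mk_smul] at this

theorem not_two_four {x : L2} (h2 : IsType 2 x) (h4 : IsType 4 x) : False := by
  have h : {y : L2 | IsType 2 y} = {y : L2 | IsType 4 y} := by
    ext y
    constructor
    · intro hy
      obtain ⟨g, rfl⟩ := IsType.trans (Or.inl rfl) h2 hy
      exact h4.smul g
    · intro hy
      obtain ⟨g, rfl⟩ := IsType.trans (Or.inr (Or.inr rfl)) h4 hy
      exact h2.smul g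
  have h3 := ncard_two
  rw [h, ncard_four] at h3
  norm_num at h3

theorem not_two_three {x : L2} (h2 : IsType 2 x) (h3 : IsType 3 x) : False := by
  have h5 := qf_of_type h2
  rw [qf_of_type h3] at h5
  exact absurd h5 (by decide)

theorem not_four_three {x : L2} (h2 : IsType 4 x) (h3 : IsType 3 x) : False := by
  have h5 := qf_of_type h2
  rw [qf_of_type h3] at h5
  exact absurd h5 (by decide)

theorem not_zero {n : ℤ} (hn : n = 2 ∨ n = 3 ∨ n = 4) (h : IsType n 0) : False := by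
  rcases hn with rfl | rfl | rfl
  · exact ne_zero_of_type (Or.inl rfl) h rfl
  · have h5 := qf_of_type h
    rw [qf_zero] at h5
    exact absurd h5 (by decide)
  · exact ne_zero_of_type (Or.inr rfl) h rfl

/-- the partition of `Λ / 2Λ` -/
theorem sum_univ (f : L2 → ℂ) : ∑ v : L2, f v = f 0 + ∑ v ∈ Tn 2, f v + ∑ v ∈ Tn 3, f v + ∑ v ∈ Tn 4, f v := by
  classical
  have h : (Finset.univ : Finset L2) = ((({0} : Finset L2) ∪ Tn 2) ∪ Tn 3) ∪ Tn 4 := by
    ext v
    simp only [Finset.mem_univ, Finset.mem_union, Finset.mem_singleton, mem_Tn, true_iff]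
    rcases type_cases v with h | h | h | h
    · exact Or.inl (Or.inl (Or.inl h))
    · exact Or.inl (Or.inl (Or.inr h))
    · exact Or.inl (Or.inr h)
    · exact Or.inr h
  have d1 : Disjoint ({0} : Finset L2) (Tn 2) := by
    rw [Finset.disjoint_left]
    intro v hv h2
    rw [Finset.mem_singleton] at hv
    subst hv
    exact not_zero (Or.inl rfl) (mem_Tn.1 h2)
  have d2 : Disjoint (({0} : Finset L2) ∪ Tn 2) (Tn 3) := by
    rw [Finset.disjoint_left]
    intro v hv h3
    rw [Finset.mem_union, Finset.mem_singleton] at hv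
    rcases hv with rfl | hv
    · exact not_zero (Or.inr (Or.inl rfl)) (mem_Tn.1 h3)
    · exact not_two_three (mem_Tn.1 hv) (mem_Tn.1 h3)
  have d3 : Disjoint ((({0} : Finset L2) ∪ Tn 2) ∪ Tn 3) (Tn 4) := by
    rw [Finset.disjoint_left]
    intro v hv h4
    rw [Finset.mem_union, Finset.mem_union, Finset.mem_singleton] at hv
    rcases hv with (rfl | hv) | hv
    · exact not_zero (Or.inr (Or.inr rfl)) (mem_Tn.1 h4)
    · exact not_two_four (mem_Tn.1 hv) (mem_Tn.1 h4)
    · exact not_four_three (mem_Tn.1 h4) (mem_Tn.1 hv)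
  rw [h, Finset.sum_union d3, Finset.sum_union d2, Finset.sum_union d1, Finset.sum_singleton]

theorem sum_const (n : ℤ) {f : L2 → ℂ} {c : ℂ} (h : ∀ v, IsType n v → f v = c) :
    ∑ v ∈ Tn n, f v = ((Tn n).card : ℂ) * c := by
  rw [Finset.sum_congr rfl fun v hv => h v (mem_Tn.1 hv), Finset.sum_const, nsmul_eq_mul]

theorem card_two : ((Tn 2).card : ℂ) = 98280 := by rw [card_Tn, ncard_two]; norm_num

theorem card_four : ((Tn 4).card : ℂ) = 8292375 := by rw [card_Tn, ncard_four]; norm_num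

theorem card_three : ((Tn 3).card : ℂ) = 8386560 := by
  have h := sum_univ (fun _ => 1)
  rw [sum_const 2 (fun _ _ => rfl), sum_const 3 (fun _ _ => rfl), sum_const 4 (fun _ _ => rfl), Finset.sum_const,
    Finset.card_univ, nsmul_eq_mul, mul_one, card_eq, card_two, card_four] at h
  linear_combination -h

/-- the Gauss sum -/
theorem gauss : ∑ v : L2, sg (qf v) = 4096 := by
  rw [sum_univ, qf_zero, sg_zero,
    sum_const 2 (c := 1) (fun v hv => by rw [qf_of_type hv]; exact sg_zero),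
    sum_const 3 (c := -1) (fun v hv => by rw [qf_of_type hv]; exact sg_one),
    sum_const 4 (c := 1) (fun v hv => by rw [qf_of_type hv]; exact sg_zero), card_two, card_three, card_four]
  norm_num

theorem gauss_shift (x : L2) : ∑ v : L2, sg (qf v + bf v x) = sg (qf x) * 4096 := by
  rw [← gauss, Finset.mul_sum]
  refine Fintype.sum_equiv (Equiv.addRight x) _ _ fun v => ?_
  rw [Equiv.coe_addRight, ← sg_add, qf_add]
  congr 1
  generalize qf v = a
  generalize qf x = b
  generalize bf v x = c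
  revert a b c; decide

theorem S_sum {x : L2} (hx : x ≠ 0) : 1 + S 2 x + S 3 x + S 4 x = 0 := by
  have h := sum_sg_ne hx
  rw [sum_univ, bf_zero_left, sg_zero] at h
  exact h

theorem S_three {x : L2} (hx : x ≠ 0) (hq : qf x = 0) : S 3 x = -2048 := by
  have h := gauss_shift x
  rw [sum_univ, bf_zero_left, qf_zero, add_zero, hq, sg_zero] at h
  have h2 : ∑ v ∈ Tn 2, sg (qf v + bf v x) = S 2 x := Finset.sum_congr rfl fun v hv => by
    rw [sg_add, qf_of_type (mem_Tn.1 hv)]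
    rw [show ((2 : ℤ) : ZMod 2) = 0 from rfl, sg_zero, one_mul]
  have h3 : ∑ v ∈ Tn 3, sg (qf v + bf v x) = -S 3 x := by
    unfold S
    rw [← Finset.sum_neg_distrib]
    refine Finset.sum_congr rfl fun v hv => ?_
    rw [sg_add, qf_of_type (mem_Tn.1 hv)]
    rw [show ((3 : ℤ) : ZMod 2) = 1 from rfl, sg_one, neg_one_mul]
  have h4 : ∑ v ∈ Tn 4, sg (qf v + bf v x) = S 4 x := Finset.sum_congr rfl fun v hv => by
    rw [sg_add, qf_of_type (mem_Tn.1 hv)]
    rw [show ((4 : ℤ) : ZMod 2) = 0 from rfl, sg_zero, one_mul]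
  rw [h2, h3, h4] at h
  have h5 := S_sum hx
  linear_combination (1 / 2 : ℂ) * h5 - (1 / 2 : ℂ) * h

theorem qf_even {n : ℤ} (hn : n = 2 ∨ n = 4) {x : L2} (hx : IsType n x) : qf x = 0 := by
  rw [qf_of_type hx]
  rcases hn with rfl | rfl <;> rfl

/-- type 4 -/
theorem S_two_of_four {x : L2} (hx : IsType 4 x) : S 2 x = -24 := by
  rw [S_eq 2 (Or.inr (Or.inr rfl)) isType_f0 hx]
  exact sum_two

theorem S_three_of_four {x : L2} (hx : IsType 4 x) : S 3 x = -2048 :=
  S_three (ne_zero_of_type (Or.inr rfl) hx) (qf_even (Or.inr rfl) hx)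

theorem S_four_of_four {x : L2} (hx : IsType 4 x) : S 4 x = 2071 := by
  have h := S_sum (ne_zero_of_type (Or.inr rfl) hx)
  rw [S_two_of_four hx, S_three_of_four hx] at h
  linear_combination h

/-- type 2 -/
theorem S_four_of_two {x : L2} (hx : IsType 2 x) : S 4 x = -2025 := by
  have h1 : ∑ v ∈ Tn 2, S 4 v = ∑ w ∈ Tn 4, S 2 w := by
    unfold S
    rw [Finset.sum_comm]
    exact Finset.sum_congr rfl fun w _ => Finset.sum_congr rfl fun v _ => by rw [bf_comm]
  rw [sum_const 2 (f := S 4) (c := S 4 x) (fun v hv => S_eq 4 (Or.inl rfl) hx hv),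
    sum_const 4 (f := S 2) (c := -24) (fun v hv => S_two_of_four hv), card_two, card_four] at h1
  linear_combination (1 / 98280 : ℂ) * h1

theorem S_three_of_two {x : L2} (hx : IsType 2 x) : S 3 x = -2048 :=
  S_three (ne_zero_of_type (Or.inl rfl) hx) (qf_even (Or.inl rfl) hx)

theorem S_two_of_two {x : L2} (hx : IsType 2 x) : S 2 x = 4072 := by
  have h := S_sum (ne_zero_of_type (Or.inl rfl) hx)
  rw [S_four_of_two hx, S_three_of_two hx] at h
  linear_combination h

/-! ### the values -/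

variable {G : Type*} [Group G] {Q : Subgroup G} {z : G} {eta : G → L2}
  {pi : Subgroup.centralizer ({z} : Set G) →* Co1}
variable {V : Type*} [AddCommGroup V] [Module ℂ V]

/-- the multiplicities are constant on the types -/
theorem sum_mult [Fintype Q] [FiniteDimensional ℂ V] (h : Chart Q z eta pi) (ρ : G →* (V →ₗ[ℂ] V)) {x2 x3 x4 : L2}
    (h2 : IsType 2 x2) (h3 : IsType 3 x3) (h4 : IsType 4 x4) (y : L2) :
    ∑ v : L2, sg (bf v y) * (m Q eta ρ v : ℂ) =
      (m Q eta ρ 0 : ℂ) + S 2 y * (m Q eta ρ x2 : ℂ) + S 3 y * (m Q eta ρ x3 : ℂ) + S 4 y * (m Q eta ρ x4 : ℂ) := by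
  rw [sum_univ, bf_zero_left, sg_zero, one_mul]
  unfold S
  rw [Finset.sum_mul, Finset.sum_mul, Finset.sum_mul]
  congr 1
  · congr 1
    · congr 1
      exact Finset.sum_congr rfl fun v hv => by rw [m_type h ρ (Or.inl rfl) (mem_Tn.1 hv) h2]
    · exact Finset.sum_congr rfl fun v hv => by rw [m_type h ρ (Or.inr (Or.inl rfl)) (mem_Tn.1 hv) h3]
  · exact Finset.sum_congr rfl fun v hv => by rw [m_type h ρ (Or.inr (Or.inr rfl)) (mem_Tn.1 hv) h4]

theorem trace_z {y : G} {ρ : G →* (V →ₗ[ℂ] V)} (h : Chart Q z eta pi) (hyQ : y ∈ Q) (hy : eta y ≠ 0) :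
    LinearMap.trace ℂ V (ρ (y * z)) = LinearMap.trace ℂ V (ρ y) := by
  obtain ⟨r, -, hr, -⟩ := exists_conj_yz h hyQ hy
  rw [← hr, trace_conj]

/-- **The values of a representation at `1`, `2A`, `2B`.** -/
theorem values [FiniteDimensional ℂ V] (h : Chart Q z eta pi) (ρ : G →* (V →ₗ[ℂ] V))
    {y4 : G} (h4Q : y4 ∈ Q) (h4 : IsType 4 (eta y4)) (hconj : ∃ g, g * z * g⁻¹ = y4)
    {y2 : G} (h2Q : y2 ∈ Q) (h2 : IsType 2 (eta y2)) :
    ∃ a b c e : ℕ, finrank ℂ V = a + 196584 * b + 16775168 * c + 16582679 * e ∧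
      LinearMap.trace ℂ V (ρ y2) = (((a : ℤ) + 4072 * b - 2048 * c - 2025 * e : ℤ) : ℂ) ∧
      LinearMap.trace ℂ V (ρ z) = (((a : ℤ) - 24 * b - 2048 * c + 2071 * e : ℤ) : ℂ) := by
  have hfin := h.fin
  have : Fintype Q := Fintype.ofFinite Q
  obtain ⟨x3, h3⟩ : {x : L2 | IsType 3 x}.Nonempty := Set.nonempty_of_ncard_ne_zero (by have := ncard_three; omega)
  have t4 : LinearMap.trace ℂ V (ρ y4) = LinearMap.trace ℂ V (ρ z) := by
    obtain ⟨g, rfl⟩ := hconj
    exact trace_conj ρ g z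
  have n4 : eta y4 ≠ 0 := ne_zero_of_type (Or.inr rfl) h4
  have n2 : eta y2 ≠ 0 := ne_zero_of_type (Or.inl rfl) h2
  have e0 := sum_m h ρ Q.one_mem
  have e4 := sum_m h ρ h4Q
  have e2 := sum_m h ρ h2Q
  rw [trace_z h h4Q n4, t4, sum_mult h ρ h2 h3 h4, S_two_of_four h4, S_three_of_four h4, S_four_of_four h4] at e4
  rw [trace_z h h2Q n2, sum_mult h ρ h2 h3 h4, S_two_of_two h2, S_three_of_two h2, S_four_of_two h2] at e2
  have s0 : ∀ n, S n 0 = ((Tn n).card : ℂ) := fun n => by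
    unfold S
    rw [sum_const n (c := 1) (fun v _ => by rw [bf_zero_right, sg_zero]), mul_one]
  rw [h.eta_one, one_mul, map_one, LinearMap.trace_one, sum_mult h ρ h2 h3 h4, s0, s0, s0, card_two, card_three,
    card_four] at e0
  refine ⟨m Q eta ρ 0, m Q eta ρ (eta y2), m Q eta ρ x3, m Q eta ρ (eta y4), ?_, ?_, ?_⟩
  · have : ((finrank ℂ V : ℕ) : ℂ) = ((m Q eta ρ 0 + 196584 * m Q eta ρ (eta y2) + 16775168 * m Q eta ρ x3 +
        16582679 * m Q eta ρ (eta y4) : ℕ) : ℂ) := by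
      push_cast
      linear_combination (-2 : ℂ) * e0 + (1 : ℂ) * e4
    exact_mod_cast this
  · push_cast
    linear_combination (-1 : ℂ) * e2
  · push_cast
    linear_combination (-1 : ℂ) * e4

end Cfsg.Agent.H562.OreM.QVal
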