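import Cfsg.Agent.H58.Mon.Thirteen
import Cfsg.Agent.H494.B0R.OrdM
import Cfsg.Agent.H241.NHMonA

/-!
# The Monster: elements of order 3 with centralizers of odd order, I (helper562)

* `free_dvd` : `|A|` divides `|R| - 1`, if `A` normalizes `R` and `C_R(a) = 1` for `1 ≠ a ∈ A`;
* `exists_pair` : a Hall argument;
* `not_big` : the primes at least 17 do not divide `|C(g)|`;
* `cases_hall` : the primes 7, 11, 13.
-/

set_option autoImplicit false
set_option maxRecDepth 100000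

namespace Cfsg.Agent.H562.OreM.ThreeOdd

open Cfsg Cfsg.Agent.MonsterX Cfsg.Agent.MonsterX.InstData Cfsg.Agent.MonsterX.MainPack Cfsg.Agent.MonsterU
open Cfsg.Agent.MonsterP Cfsg.Agent.MonsterN Cfsg.Agent.LThreeMB
open Cfsg.Agent.MonsterX.MainBasic Cfsg.Agent.MonsterX.MainSimple Cfsg.Agent.MonsterX.Model
open Cfsg.Agent.MonsterU.Lam2 Cfsg.Agent.MonsterU.TwoCls
open Cfsg.Agent.BpSpor.MBigModel Cfsg.Agent.H199.NSmMon
open Cfsg.Spor (Co1)
open Subgroup (centralizer zpowers mem_centralizer_singleton_iff center)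

section abs

variable {G : Type*} [Group G]

/-- **A free action by conjugation.** -/
theorem free_dvd [Finite G] {A R : Subgroup G} (hn : ∀ a ∈ A, ∀ r ∈ R, a * r * a⁻¹ ∈ R)
    (hf : ∀ a ∈ A, a ≠ 1 → ∀ r ∈ R, a * r = r * a → r = 1) : Nat.card ↥A ∣ Nat.card ↥R - 1 := by
  classical
  let Ω := {r : ↥R // r ≠ 1}
  letI : MulAction ↥A Ω :=
    { smul := fun a r => ⟨⟨(a : G) * r.1 * (a : G)⁻¹, hn a a.2 r.1 r.1.2⟩, fun h => r.2 (by
        have h1 : (a : G) * r.1 * (a : G)⁻¹ = 1 := congrArg Subtype.val h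
        exact Subtype.ext ((conj_eq_one_iff).1 h1))⟩
      one_smul := fun r => Subtype.ext (Subtype.ext (by
        show (1 : G) * r.1 * (1 : G)⁻¹ = r.1
        group))
      mul_smul := fun a b r => Subtype.ext (Subtype.ext (by
        show ((a : G) * b) * r.1 * ((a : G) * b)⁻¹ = a * (b * r.1 * (b : G)⁻¹) * (a : G)⁻¹
        group)) }
  have hst : ∀ ω : Ω, MulAction.stabilizer ↥A ω = ⊥ := by
    intro ω
    rw [eq_bot_iff]
    intro a ha
    rw [Subgroup.mem_bot]
    by_contra hne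
    have h1 : (a : G) * ω.1 * (a : G)⁻¹ = ω.1 :=
      congrArg (fun x : Ω => ((x.1 : ↥R) : G)) (MulAction.mem_stabilizer_iff.1 ha)
    exact ω.2 (Subtype.ext (hf a a.2 (fun h => hne (Subtype.ext h)) ω.1 ω.1.2 (mul_inv_eq_iff_eq_mul.1 h1)))
  have h1 : Nat.card Ω = Nat.card (MulAction.orbitRel.Quotient ↥A Ω) * Nat.card ↥A := by
    rw [← Nat.card_prod]
    refine Nat.card_congr ((MulAction.selfEquivSigmaOrbitsQuotientStabilizer ↥A Ω).trans
      ((Equiv.sigmaCongrRight fun ω => ?_).trans (Equiv.sigmaEquivProd _ _)))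
    exact (Subgroup.quotientEquivOfEq (hst _)).trans QuotientGroup.quotientBot.toEquiv
  have h2 : Nat.card Ω = Nat.card ↥R - 1 := by
    have := Fintype.ofFinite ↥R
    rw [Nat.card_eq_fintype_card, Nat.card_eq_fintype_card, Fintype.card_subtype_compl, Fintype.card_subtype_eq]
  rw [← h2, h1]
  exact dvd_mul_left _ _

/-- **The Hall argument.** -/
theorem exists_pair [Finite G] (hR : Group.IsSolvable G) {p q n : ℕ} [hp : Fact p.Prime] [hq : Fact q.Prime]
    (hpq : p ≠ q) (hpn : ¬ p ^ (n + 1) ∣ Nat.card G) (h1 : ∀ i, 1 ≤ i → i ≤ n → ¬ q ∣ p ^ i - 1) :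
    ∃ (A S : Subgroup G), IsPGroup p ↥A ∧ ¬ p ∣ A.index ∧ IsPGroup q ↥S ∧ ¬ q ∣ S.index ∧
      ∀ a ∈ A, ∀ s ∈ S, a * s * a⁻¹ ∈ S := by
  obtain ⟨L, hL, hLc⟩ := H131.T5.exists_hall (G := G) (fun t => t = p ∨ t = q)
  have T0 : Sylow p G := default
  have S0 : Sylow q G := default
  obtain ⟨g, hg⟩ := hLc (T0 : Subgroup G) (fun t ht hd => by
    left
    obtain ⟨n, hn⟩ := IsPGroup.iff_card.1 T0.2
    rw [hn] at hd
    exact (Nat.prime_dvd_prime_iff_eq ht hp.out).1 (ht.dvd_of_dvd_pow hd))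
  obtain ⟨k, hk⟩ := hLc (S0 : Subgroup G) (fun t ht hd => by
    right
    obtain ⟨n, hn⟩ := IsPGroup.iff_card.1 S0.2
    rw [hn] at hd
    exact (Nat.prime_dvd_prime_iff_eq ht hq.out).1 (ht.dvd_of_dvd_pow hd))
  obtain ⟨S⟩ : Nonempty (Sylow q ↥L) := inferInstance
  have hn1 : Nat.card (Sylow q ↥L) = 1 := by
    have h4 := card_sylow_modEq_one q ↥L
    have h5 : Nat.card (Sylow q ↥L) ∣ Nat.card ↥L := by
      rw [S.card_eq_index_normalizer]
      exact Subgroup.index_dvd_card _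
    have h6 : ∀ t : ℕ, t.Prime → t ∣ Nat.card (Sylow q ↥L) → t = p := by
      intro t ht hd
      rcases hL t ht (hd.trans h5) with h | h
      · exact h
      · exfalso
        subst h
        have h7 := (Nat.modEq_zero_iff_dvd.2 hd).symm.trans h4
        have h8 : (0 : ℕ) % t = 1 % t := h7
        rw [Nat.zero_mod, Nat.mod_eq_of_lt ht.one_lt] at h8
        exact absurd h8 (by norm_num)
    have h7 : Nat.card (Sylow q ↥L) ≠ 0 := Nat.card_pos.ne'
    obtain ⟨i, hi⟩ : ∃ i, Nat.card (Sylow q ↥L) = p ^ i := by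
      refine ⟨_, Nat.eq_prime_pow_of_unique_prime_dvd h7 (fun {d} hd hdd => h6 d hd hdd)⟩
    have hi3 : i ≤ n := by
      by_contra hcon
      apply hpn
      refine (pow_dvd_pow p (by omega : n + 1 ≤ i)).trans ?_
      rw [← hi]
      exact h5.trans (Subgroup.card_subgroup_dvd_card L)
    rcases Nat.eq_zero_or_pos i with rfl | hpos
    · rw [hi, pow_zero]
    · rw [hi] at h4
      exact absurd ((Nat.modEq_iff_dvd' (Nat.one_le_pow _ _ hp.out.pos)).1 h4.symm) (h1 i hpos hi3)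
  have hnorm : (S : Subgroup ↥L).Normal := by
    have := Subsingleton.intro (fun a b : Sylow q ↥L => (Nat.card_eq_one_iff_unique.1 hn1).1.elim a b)
    exact (Sylow.normal_of_subsingleton S)
  -- the conjugate of `S0`
  let c : G →* G := (MulAut.conj k).toMonoidHom
  have hS1L : (S0 : Subgroup G).map c ≤ L := by
    rintro _ ⟨s, hs, rfl⟩
    exact hk s hs
  have hS1i : ¬ q ∣ ((S0 : Subgroup G).map c).index := by
    have h4 : ((S0 : Subgroup G).map c).index = (S0 : Subgroup G).index := Subgroup.index_map_equiv _ (MulAut.conj k)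
    rw [h4]
    exact S0.not_dvd_index
  have hS1p : IsPGroup q ↥((S0 : Subgroup G).map c) := S0.2.map _
  have hS1S : (S0 : Subgroup G).map c ≤ (S : Subgroup ↥L).map L.subtype := by
    have h5 : IsPGroup q ↥(((S0 : Subgroup G).map c).subgroupOf L) := hS1p.comap_of_injective _ L.subtype_injective
    obtain ⟨S2, hS2⟩ := h5.exists_le_sylow
    have h6 : S2 = S := (Nat.card_eq_one_iff_unique.1 hn1).1.elim S2 S
    rw [h6] at hS2
    intro s hs
    exact ⟨⟨s, hS1L hs⟩, hS2 (Subgroup.mem_subgroupOf.2 hs), rfl⟩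
  refine ⟨(T0 : Subgroup G).map (MulAut.conj g).toMonoidHom, (S : Subgroup ↥L).map L.subtype, T0.2.map _, ?_, S.2.map _,
    ?_, ?_⟩
  · have h4 : ((T0 : Subgroup G).map (MulAut.conj g).toMonoidHom).index = (T0 : Subgroup G).index :=
      Subgroup.index_map_equiv _ (MulAut.conj g)
    rw [h4]
    exact T0.not_dvd_index
  · exact fun h => hS1i (h.trans (Subgroup.index_dvd_of_le hS1S))
  · rintro _ ⟨u, hu, rfl⟩ _ ⟨s, hs, rfl⟩
    have htL : g * u * g⁻¹ ∈ L := hg u hu
    exact ⟨⟨g * u * g⁻¹, htL⟩ * s * (⟨g * u * g⁻¹, htL⟩ : ↥L)⁻¹, hnorm.conj_mem s hs _, rfl⟩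

/-- commuting elements of prime order -/
theorem exists_orders {p q : ℕ} [hp : Fact p.Prime] [hq : Fact q.Prime] {a s : G} {i j : ℕ} (ha : a ^ p ^ i = 1)
    (hs : s ^ q ^ j = 1) (ha1 : a ≠ 1) (hs1 : s ≠ 1) (h : a * s = s * a) :
    ∃ a' s' : G, orderOf a' = p ∧ orderOf s' = q ∧ a' * s' = s' * a' := by
  obtain ⟨k, hk, hak⟩ := (Nat.dvd_prime_pow hp.out).1 (orderOf_dvd_of_pow_eq_one ha)
  obtain ⟨l, hl, hsl⟩ := (Nat.dvd_prime_pow hq.out).1 (orderOf_dvd_of_pow_eq_one hs)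
  have hk0 : k ≠ 0 := by
    rintro rfl
    rw [pow_zero, orderOf_eq_one_iff] at hak
    exact ha1 hak
  have hl0 : l ≠ 0 := by
    rintro rfl
    rw [pow_zero, orderOf_eq_one_iff] at hsl
    exact hs1 hsl
  obtain ⟨k, rfl⟩ := Nat.exists_eq_succ_of_ne_zero hk0
  obtain ⟨l, rfl⟩ := Nat.exists_eq_succ_of_ne_zero hl0
  refine ⟨a ^ p ^ k, s ^ q ^ l, ?_, ?_, ((show Commute a s from h).pow_pow _ _).eq⟩
  · rw [orderOf_pow_of_dvd (pow_ne_zero _ hp.out.ne_zero) (by rw [hak]; exact pow_dvd_pow p (Nat.le_succ k)), hak,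
      Nat.succ_eq_add_one, pow_succ, Nat.mul_div_cancel_left _ (pow_pos hp.out.pos k)]
  · rw [orderOf_pow_of_dvd (pow_ne_zero _ hq.out.ne_zero) (by rw [hsl]; exact pow_dvd_pow q (Nat.le_succ l)), hsl,
      Nat.succ_eq_add_one, pow_succ, Nat.mul_div_cancel_left _ (pow_pos hq.out.pos l)]

end abs

/-! ### The primes at least 17 -/

/-- an element of order 3 commuting with an element of large prime order -/
theorem ev_of_comm {r : ℕ} (hr : r.Prime) (hr2 : ¬ r ^ 2 ∣ Nat.card MG) {v : MG} (hv : orderOf v = 3) (he : Ev v)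
    (hd : r ∣ Nat.card ↥(centralizer ({v} : Set MG))) {y g : MG} (hy : orderOf y = r)
    (h9 : ¬ 3 ^ 2 ∣ Nat.card ↥(centralizer ({y} : Set MG))) (hg : orderOf g = 3) (hgy : g * y = y * g) : Ev g := by
  have := finite
  have hrf : Fact r.Prime := ⟨hr⟩
  have h3 : Fact (Nat.Prime 3) := ⟨Nat.prime_three⟩
  obtain ⟨y1, hy1⟩ := exists_prime_orderOf_dvd_card' r hd
  have hy1o : orderOf (y1 : MG) = r := by rw [Subgroup.orderOf_coe, hy1]
  have hy1v : (y1 : MG) * v = v * y1 := mem_centralizer_singleton_iff.1 y1.2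
  generalize (y1 : MG) = y2 at hy1o hy1v
  have hi : ¬ r ∣ (zpowers y).index := by
    intro h
    apply hr2
    rw [← (zpowers y).card_mul_index, Nat.card_zpowers, hy, pow_two]
    exact mul_dvd_mul_left r h
  obtain ⟨c, hc⟩ := H533.T5.exists_conj_mem_of_index hi hy1o
  have hco : orderOf (c * y2 * c⁻¹) = r := by
    rw [← hy1o]
    exact orderOf_injective (MulAut.conj c).toMonoidHom (MulAut.conj c).injective y2
  have hz : zpowers (c * y2 * c⁻¹) = zpowers y :=
    Subgroup.eq_of_le_of_card_ge (Subgroup.zpowers_le.2 hc) (by rw [Nat.card_zpowers, Nat.card_zpowers, hco, hy])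
  have hvc : (c * v * c⁻¹) * y = y * (c * v * c⁻¹) := by
    have h4 : y ∈ zpowers (c * y2 * c⁻¹) := by rw [hz]; exact Subgroup.mem_zpowers y
    obtain ⟨i, hi⟩ := Subgroup.mem_zpowers_iff.1 h4
    rw [← hi]
    refine ((show Commute (c * v * c⁻¹) (c * y2 * c⁻¹) from ?_).zpow_right i).eq
    show c * v * c⁻¹ * (c * y2 * c⁻¹) = c * y2 * c⁻¹ * (c * v * c⁻¹)
    calc c * v * c⁻¹ * (c * y2 * c⁻¹) = c * (v * y2) * c⁻¹ := by group
      _ = c * (y2 * v) * c⁻¹ := by rw [hy1v]
      _ = _ := by group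
  have hev : Ev (c * v * c⁻¹) := he.conj c
  have hvo : orderOf (c * v * c⁻¹) = 3 := by
    rw [← hv]
    exact orderOf_injective (MulAut.conj c).toMonoidHom (MulAut.conj c).injective v
  generalize c * v * c⁻¹ = w at hvc hev hvo
  let w' : ↥(centralizer ({y} : Set MG)) := ⟨w, mem_centralizer_singleton_iff.2 hvc⟩
  have hw' : orderOf w' = 3 := by rw [Subgroup.orderOf_mk, hvo]
  have hi : ¬ 3 ∣ (zpowers w').index := by
    intro h
    apply h9
    rw [← (zpowers w').card_mul_index, Nat.card_zpowers, hw', pow_two]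
    exact mul_dvd_mul_left 3 h
  obtain ⟨d, hd⟩ := H533.T5.exists_conj_mem_of_index hi
    (x := (⟨g, mem_centralizer_singleton_iff.2 hgy⟩ : ↥(centralizer ({y} : Set MG)))) (by rw [Subgroup.orderOf_mk, hg])
  obtain ⟨i, hi⟩ := Subgroup.mem_zpowers_iff.1 hd
  have h5 : w ^ i = (d : MG) * g * (d : MG)⁻¹ := congrArg Subtype.val hi
  have h6 : Ev ((d : MG) * g * (d : MG)⁻¹) := by
    rw [← h5]
    obtain ⟨b, hb⟩ := hev
    exact ⟨b, ((show Commute (b * zz * b⁻¹) w from hb).zpow_right i).eq⟩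
  have h7 := h6.conj (d : MG)⁻¹
  have h8 : (d : MG)⁻¹ * ((d : MG) * g * (d : MG)⁻¹) * (d : MG)⁻¹⁻¹ = g := by group
  rwa [h8] at h7

theorem exists_fi' : ∃ v : MG, orderOf v = 3 ∧ Ev v ∧
    Nat.card ↥(centralizer ({v} : Set MG)) = 3 * 1255205709190661721292800 := by
  have := finite
  obtain ⟨v, hv, -, ⟨e⟩⟩ := H241.Mon.exists_fi
  have hv' : orderOf (v : MG) = 3 := by rw [Subgroup.orderOf_coe, hv]
  refine ⟨(v : MG), hv', ⟨1, ?_⟩, ?_⟩
  · rw [one_mul, inv_one, mul_one]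
    exact (mem_centralizer_singleton_iff.1 v.2).symm
  · rw [card_XX, hv', Nat.card_congr e.toEquiv, Cfsg.Agent.S1698.result.2]

theorem exists_th' : ∃ v : MG, orderOf v = 3 ∧ Ev v ∧
    Nat.card ↥(centralizer ({v} : Set MG)) = 3 * 90745943887872000 := by
  have := finite
  obtain ⟨v, hv, -, ⟨e⟩⟩ := H241.Mon.exists_th
  have hv' : orderOf (v : MG) = 3 := by rw [Subgroup.orderOf_coe, hv]
  refine ⟨(v : MG), hv', ⟨1, ?_⟩, ?_⟩
  · rw [one_mul, inv_one, mul_one]
    exact (mem_centralizer_singleton_iff.1 v.2).symm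
  · rw [card_XX, hv', Nat.card_congr e.toEquiv, Cfsg.Agent.S1700.result.2]

/-- **the primes at least 17** -/
theorem not_big (hK : H995.CopEngine.AllKnown.{0}) (hS : H715.Mon.Grp.SThree.{0}) {g : MG} (hg : orderOf g = 3)
    (he : ¬ Ev g) {r : ℕ} (hr : r ∈ [17, 19, 23, 29, 31, 41, 47, 59, 71]) :
    ¬ r ∣ Nat.card ↥(centralizer ({g} : Set MG)) := by
  have := finite
  intro hd
  have h3 : H241.NH.Three.{0} := H241.NH.three_of fun X hX hC => hS _ X hX hC
  have hrp : r.Prime := by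
    simp only [List.mem_cons, List.not_mem_nil, or_false] at hr
    rcases hr with rfl | rfl | rfl | rfl | rfl | rfl | rfl | rfl | rfl <;> norm_num
  have : Fact r.Prime := ⟨hrp⟩
  obtain ⟨y, hy⟩ := exists_prime_orderOf_dvd_card' r hd
  have hyo : orderOf (y : MG) = r := by rw [Subgroup.orderOf_coe, hy]
  have hyg : (y : MG) * g = g * y := mem_centralizer_singleton_iff.1 y.2
  generalize (y : MG) = b at hyo hyg
  have h3b : 3 ∣ Nat.card ↥(centralizer ({b} : Set MG)) := by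
    rw [← hg]
    exact H494.B0R.OrdM.dvd_of_comm hyg.symm
  obtain ⟨v, hv, hev, hvc⟩ := exists_fi'
  obtain ⟨w, hw, hew, hwc⟩ := exists_th'
  simp only [List.mem_cons, List.not_mem_nil, or_false] at hr
  rcases hr with rfl | rfl | rfl | rfl | rfl | rfl | rfl | rfl | rfl
  · have h1 : Nat.card ↥(centralizer ({b} : Set MG)) = 168 * 17 := H715.Mon.Exact.card17 hS hyo
    exact he (ev_of_comm hrp (by rw [card_M]; norm_num) hv hev (by rw [hvc]; norm_num) hyo (by rw [h1]; norm_num) hg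
      hyg.symm)
  · have h1 : Nat.card ↥(centralizer ({b} : Set MG)) = 60 * 19 := H715.Mon.Exact.card19' hS hyo
    exact he (ev_of_comm hrp (by rw [card_M]; norm_num) hw hew (by rw [hwc]; norm_num) hyo (by rw [h1]; norm_num) hg
      hyg.symm)
  · have h1 : Nat.card ↥(centralizer ({b} : Set MG)) = 24 * 23 := H715.Mon.Exact.card23 hS hyo
    exact he (ev_of_comm hrp (by rw [card_M]; norm_num) hv hev (by rw [hvc]; norm_num) hyo (by rw [h1]; norm_num) hg
      hyg.symm)
  · exact he (ev_of_comm hrp (by rw [card_M]; norm_num) hv hev (by rw [hvc]; norm_num) hyo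
      (by rw [H626.LD.TwentyNine.card_cent hyo]; norm_num) hg hyg.symm)
  · have h1 : Nat.card ↥(centralizer ({b} : Set MG)) = 6 * 31 := H715.Mon.Cent.card31 hS hyo
    exact he (ev_of_comm hrp (by rw [card_M]; norm_num) hw hew (by rw [hwc]; norm_num) hyo (by rw [h1]; norm_num) hg
      hyg.symm)
  · rw [H979.OreM.cent_41 hK h3 hyo] at h3b
    revert h3b
    norm_num
  · have h1 : Nat.card ↥(centralizer ({b} : Set MG)) = 47 * 2 := H436.MonLoc.card47 hK hyo
    rw [h1] at h3b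
    revert h3b
    norm_num
  · rw [(H58.Cop.M.norm_fiftynine hK hyo).1] at h3b
    revert h3b
    norm_num
  · rw [H979.OreM.cent_71 hK h3 hyo] at h3b
    revert h3b
    norm_num

/-! ### The primes 7, 11, 13 -/

theorem not_dvd_pow {x : MG} {n : ℕ} (h : ¬ n ∣ 808017424794512875886459904961710757005754368000000000) :
    ¬ n ∣ Nat.card ↥(centralizer ({x} : Set MG)) := fun h1 => h (by
  have h2 := h1.trans (Subgroup.card_subgroup_dvd_card _)
  rwa [card_M] at h2)

/-- **the primes 7, 11, 13** -/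
theorem cases_hall {g : MG} (ho : Odd (Nat.card ↥(centralizer ({g} : Set MG)))) :
    (¬ 7 ∣ Nat.card ↥(centralizer ({g} : Set MG)) ∧ ¬ 13 ∣ Nat.card ↥(centralizer ({g} : Set MG))) ∨
    (¬ 11 ∣ Nat.card ↥(centralizer ({g} : Set MG)) ∧ ¬ 13 ∣ Nat.card ↥(centralizer ({g} : Set MG))) ∨
    (¬ 11 ∣ Nat.card ↥(centralizer ({g} : Set MG)) ∧ ¬ 7 ^ 2 ∣ Nat.card ↥(centralizer ({g} : Set MG))) := by
  have := finite
  have hsol : Group.IsSolvable ↥(centralizer ({g} : Set MG)) := S0205.result ho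
  have h7 : Fact (Nat.Prime 7) := ⟨by norm_num⟩
  have h11 : Fact (Nat.Prime 11) := ⟨by norm_num⟩
  have h13 : Fact (Nat.Prime 13) := ⟨by norm_num⟩
  -- 11 and `q`
  have key : ∀ {q m : ℕ} [Fact q.Prime], 11 ≠ q → (∀ i, 1 ≤ i → i ≤ 2 → ¬ q ∣ 11 ^ i - 1) →
      (¬ q ^ (m + 1) ∣ Nat.card ↥(centralizer ({g} : Set MG))) → (∀ i, 1 ≤ i → i ≤ m → ¬ 11 ∣ q ^ i - 1) →
      (∀ s : MG, orderOf s = q → ¬ 11 ∣ Nat.card ↥(centralizer ({s} : Set MG))) →
      11 ∣ Nat.card ↥(centralizer ({g} : Set MG)) → ¬ q ∣ Nat.card ↥(centralizer ({g} : Set MG)) := by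
    intro q m hq h11q h1 hm h2 hs hd hdq
    obtain ⟨T, s, hso, hT, hTi, hTs⟩ := H58.MonThirteen.exists_commuting (p := 11) (q := q) (n := 2) (m := m) hsol h11q
      hdq (not_dvd_pow (by norm_num)) h1 hm h2
    have h3 : 11 ∣ Nat.card ↥T := by
      have h4 := T.card_mul_index
      rw [← h4] at hd
      exact (h11.out.dvd_mul.1 hd).resolve_right hTi
    refine hs (s : MG) (by rw [Subgroup.orderOf_coe, hso]) ?_
    have h4 : T.map (centralizer ({g} : Set MG)).subtype ≤ centralizer ({(s : MG)} : Set MG) := by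
      rintro _ ⟨t, ht, rfl⟩
      exact mem_centralizer_singleton_iff.2 (congrArg Subtype.val (hTs t ht))
    have h5 := Subgroup.card_dvd_of_le h4
    rw [Subgroup.card_map_of_injective (Subgroup.subtype_injective _)] at h5
    exact h3.trans h5
  have k7 := key (q := 7) (m := 6) (by norm_num) (by intro i h1 h2; interval_cases i <;> norm_num)
    (not_dvd_pow (by norm_num)) (by intro i h1 h2; interval_cases i <;> norm_num)
    (fun s hs => H58.MonThirteen.not_eleven_seven hs)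
  have k13 := key (q := 13) (m := 3) (by norm_num) (by intro i h1 h2; interval_cases i <;> norm_num)
    (not_dvd_pow (by norm_num)) (by intro i h1 h2; interval_cases i <;> norm_num)
    (fun s hs => H58.MonThirteen.not_eleven hs)
  by_cases h : 11 ∣ Nat.card ↥(centralizer ({g} : Set MG))
  · exact Or.inl ⟨k7 h, k13 h⟩
  right
  by_cases hd : 13 ∣ Nat.card ↥(centralizer ({g} : Set MG))
  · right
    refine ⟨h, fun h49 => ?_⟩
    obtain ⟨A, S, hA, hAi, hSp, hSi, hAS⟩ := exists_pair (p := 7) (q := 13) (n := 6) hsol (by norm_num)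
      (not_dvd_pow (by norm_num)) (by intro i h1 h2; interval_cases i <;> norm_num)
    have h1 : Nat.card ↥A ∣ Nat.card ↥S - 1 := by
      refine free_dvd hAS fun a ha ha1 r hr har => ?_
      by_contra hr1
      obtain ⟨i, hi⟩ := hA ⟨a, ha⟩
      obtain ⟨j, hj⟩ := hSp ⟨r, hr⟩
      obtain ⟨a', s', ha', hs', has⟩ := exists_orders (p := 7) (q := 13) (a := a) (s := r) (i := i) (j := j)
        (congrArg Subtype.val hi) (congrArg Subtype.val hj) ha1 hr1 har
      exact H494.B0R.OrdM.seven_thirteen (y := (a' : MG)) (b := (s' : MG)) (by rw [Subgroup.orderOf_coe, ha'])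
        (by rw [Subgroup.orderOf_coe, hs']) (congrArg Subtype.val has)
    have h2 : 7 ^ 2 ∣ Nat.card ↥A := by
      rw [← A.card_mul_index] at h49
      exact (((Nat.Prime.coprime_iff_not_dvd h7.out).2 hAi).pow_left 2).dvd_of_dvd_mul_right h49
    obtain ⟨j, hj⟩ := IsPGroup.iff_card.1 hSp
    have h3 : j ≤ 3 := by
      by_contra hcon
      have h4 : 13 ^ 4 ∣ Nat.card ↥(centralizer ({g} : Set MG)) := by
        refine (pow_dvd_pow 13 (by omega : 4 ≤ j)).trans ?_
        rw [← hj]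
        exact Subgroup.card_subgroup_dvd_card S
      exact not_dvd_pow (by norm_num) h4
    have h4 : j ≠ 0 := by
      rintro rfl
      apply hSi
      rw [← S.card_mul_index, hj, pow_zero, one_mul] at hd
      exact hd
    have h5 := h2.trans h1
    rw [hj] at h5
    interval_cases j
    · exact h4 rfl
    · norm_num at h5
    · norm_num at h5
    · norm_num at h5
  · exact Or.inl ⟨h, hd⟩

end Cfsg.Agent.H562.OreM.ThreeOdd
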