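import Cfsg.Agent.H562.OreM.TOddA
import Cfsg.Agent.H562.OreM.Iso
import Cfsg.Agent.H848.NoEMFive

/-!
# The Monster: elements of order 3 with centralizers of odd order, III: the prime 5 (helper562)

* `not_five` : `5 ^ 6 ∤ |C(g)|`.
-/

set_option autoImplicit false
set_option maxRecDepth 100000

namespace Cfsg.Agent.H562.OreM.ThreeOdd

open Cfsg Cfsg.Agent.MonsterX Cfsg.Agent.MonsterX.InstData Cfsg.Agent.MonsterX.MainPack Cfsg.Agent.MonsterU
open Cfsg.Agent.MonsterP Cfsg.Agent.MonsterN Cfsg.Agent.LThreeMB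
open Cfsg.Agent.MonsterX.MainBasic Cfsg.Agent.MonsterX.MainSimple Cfsg.Agent.MonsterX.Model
open Cfsg.Agent.MonsterU.Lam2 Cfsg.Agent.MonsterU.TwoCls
open Cfsg.Agent.BpSpor.MBigModel Cfsg.Agent.H199.NSmMon
open Cfsg.Spor (Co1)
open Subgroup (centralizer zpowers mem_centralizer_singleton_iff center)

/-- the elements of order 3 of `C(x)` commute with conjugates of `z` -/
theorem ev_five_zero {x : centralizer ({zz} : Set MG)} (hx : orderOf x = 5) (hfr : fr (pi x) = 1) {g : MG}
    (hg : orderOf g = 3) (hgx : g * x = x * g) : Ev g := by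
  have := finite
  have h3 : Fact (Nat.Prime 3) := ⟨Nat.prime_three⟩
  obtain ⟨e⟩ := CpAutBFive.Final.hJ (pi x) (MFive.orderOf_pi chart Nat.prime_five (by decide) hx) hfr
  have hc : Nat.card (XX (pi x)) = 604800 := by
    rw [Nat.card_congr e.toEquiv, Cfsg.Agent.J2Sylow.SporSylow.card_J2]
  set C := centralizer ({(x : MG)} : Set MG) with hC
  let K : Subgroup ↥C := centralizer ({zD x} : Set ↥C)
  have hx5 : x ^ 5 = 1 := by rw [← hx, pow_orderOf_eq_one]
  have hsurj : Function.Surjective (toXX pi x) := MFive.toXX_surj chart Nat.prime_five (by decide) hx5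
  have h1 : 604800 ∣ Nat.card ↥K := by
    rw [← hc]
    exact Subgroup.card_dvd_of_surjective _ hsurj
  have h2 := H58.MonFiveB.card_dvd hx hfr
  have hidx : ¬ 3 ∣ K.index := by
    obtain ⟨m, hm⟩ := h1
    have h4 := K.card_mul_index
    rw [hm] at h4
    have h5 : 604800 * (m * K.index) ∣ 604800 * (5 ^ 7 * 2) := by
      have : 604800 * (5 ^ 7 * 2) = 5 ^ 7 * (604800 * 2) := by norm_num
      rw [this, ← mul_assoc, h4]
      exact h2
    have h6 : K.index ∣ 5 ^ 7 * 2 := (dvd_mul_left _ _).trans (Nat.dvd_of_mul_dvd_mul_left (by norm_num) h5)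
    exact fun h => absurd (h.trans h6) (by norm_num)
  obtain ⟨d, hd⟩ := H533.T5.exists_conj_mem_of_index hidx
    (x := (⟨g, mem_centralizer_singleton_iff.2 hgx⟩ : ↥C)) (by rw [Subgroup.orderOf_mk, hg])
  have h1 : ((d : MG) * g * (d : MG)⁻¹) * zz = zz * ((d : MG) * g * (d : MG)⁻¹) :=
    congrArg Subtype.val (mem_centralizer_singleton_iff.1 hd)
  have h2 : Ev ((d : MG) * g * (d : MG)⁻¹) := ⟨1, by rw [one_mul, inv_one, mul_one]; exact h1.symm⟩
  have h3 := h2.conj (d : MG)⁻¹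
  have h4 : (d : MG)⁻¹ * ((d : MG) * g * (d : MG)⁻¹) * (d : MG)⁻¹⁻¹ = g := by group
  rwa [h4] at h3

/-- no conjugates of `⟨x⟩ ∖ 1` in `C(g)` -/
theorem no_conj {x : MG} {q : ℕ} (hq : q.Prime) (hx : orderOf x = q)
    (hev : ∀ g : MG, orderOf g = 3 → g * x = x * g → Ev g) {g : MG} (hg : orderOf g = 3) (he : ¬ Ev g) {t : MG}
    (ht : t * g = g * t) (h : MG) (hth : h * t * h⁻¹ ∈ zpowers x) : t = 1 := by
  by_contra ht1
  have hqf : Fact q.Prime := ⟨hq⟩
  have h1 : h * t * h⁻¹ ≠ 1 := by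
    intro h1
    exact ht1 (conj_eq_one_iff.1 h1)
  have h2 : orderOf (h * t * h⁻¹) = q := by
    refine orderOf_eq_prime ?_ h1
    obtain ⟨i, hi⟩ := Subgroup.mem_zpowers_iff.1 hth
    rw [← hi, ← zpow_natCast, ← zpow_mul, mul_comm, zpow_mul, zpow_natCast, ← hx, pow_orderOf_eq_one, one_zpow]
  have hf : Finite ↥(zpowers x) := Nat.finite_of_card_ne_zero (by rw [Nat.card_zpowers, hx]; exact hq.ne_zero)
  have h3 : zpowers (h * t * h⁻¹) = zpowers x :=
    Subgroup.eq_of_le_of_card_ge (Subgroup.zpowers_le.2 hth) (by rw [Nat.card_zpowers, Nat.card_zpowers, h2, hx])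
  have h4 : x ∈ zpowers (h * t * h⁻¹) := by rw [h3]; exact Subgroup.mem_zpowers x
  obtain ⟨i, hi⟩ := Subgroup.mem_zpowers_iff.1 h4
  have h5 : Commute (h * g * h⁻¹) (h * t * h⁻¹) := by
    show h * g * h⁻¹ * (h * t * h⁻¹) = h * t * h⁻¹ * (h * g * h⁻¹)
    calc h * g * h⁻¹ * (h * t * h⁻¹) = h * (g * t) * h⁻¹ := by group
      _ = h * (t * g) * h⁻¹ := by rw [ht]
      _ = _ := by group
  have h6 : (h * g * h⁻¹) * x = x * (h * g * h⁻¹) := by
    rw [← hi]
    exact (h5.zpow_right i).eq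
  have h7 := (hev (h * g * h⁻¹) (by
    rw [← hg]
    exact orderOf_injective (MulAut.conj h).toMonoidHom (MulAut.conj h).injective g) h6).conj h⁻¹
  have h8 : h⁻¹ * (h * g * h⁻¹) * h⁻¹⁻¹ = g := by group
  rw [h8] at h7
  exact he h7

set_option maxHeartbeats 1000000 in
/-- **`5 ^ 6 ∤ |C(g)|`** -/
theorem not_five {g : MG} (hg : orderOf g = 3) (he : ¬ Ev g) :
    ¬ 5 ^ 6 ∣ Nat.card ↥(centralizer ({g} : Set MG)) := by
  have hfin := finite
  have h5f : Fact (Nat.Prime 5) := ⟨Nat.prime_five⟩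
  have H : H609.T5.Five.Inp _ _ _ _ := ⟨KChart.chart KDone.lft MFive.Row.hc, BpSpor.M5.trNe,
    CpAutBFive.Closed.coFive H546.MFiveFull.hJ, H546.MFiveFull.hJ, CpAutBFive.Closed.hnEight, BpSpor.M5.hasPair,
    BpSpor.M5.exists_k BpSpor.M5.hA, H546.MFiveFull.card_model, fun r hr => CpAutBFive.EvenRow.cases hr⟩
  obtain ⟨P, x, a, b, c, u, L⟩ := H609.T5.Five.exists_lifts H.h
  obtain ⟨f1, f2, f3, ⟨N, ρ, S, hR⟩, hcon⟩ := H609.T5.Five.exists_local H L.ox L.fx
  have hfA : Finite (XX (pi x)) := Finite.of_surjective ρ hR.surj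
  have hna := H609.T5.Five.nonab H L hR
  have hxo : orderOf (x : MG) = 5 := by rw [Subgroup.orderOf_coe, L.ox]
  have hDc := H58.MonFiveB.card_dvd L.ox L.fx
  have hιi : Function.Injective (centralizer ({(x : MG)} : Set MG)).subtype := Subgroup.subtype_injective _
  -- the subgroup `S` of `D`
  have hSD : (S.map (centralizer ({(x : MG)} : Set MG)).subtype).subgroupOf (centralizer ({(x : MG)} : Set MG)) = S := by
    rw [Subgroup.subgroupOf]
    exact Subgroup.comap_map_eq_self_of_injective hιi S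
  have hSc : Nat.card ↥(S.map (centralizer ({(x : MG)} : Set MG)).subtype) = 5 ^ 7 := by
    rw [Subgroup.card_map_of_injective hιi]
    exact hR.cS
  have hSx : S.index * 5 ^ 7 = Nat.card ↥(centralizer ({(x : MG)} : Set MG)) := by
    rw [← hR.cS, mul_comm]
    exact S.card_mul_index
  have h9 : 5 ^ 9 ∣ Nat.card ↥(centralizer ({(x : MG)} : Set MG)) := by
    have h1 : Nat.card ρ.ker * Nat.card (XX (pi x)) = Nat.card ↥(centralizer ({(x : MG)} : Set MG)) := by
      rw [← Subgroup.card_mul_index ρ.ker, Subgroup.index_ker, MonoidHom.range_eq_top.2 hR.surj, Subgroup.card_top]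
    have h2 : 5 ^ 7 ∣ Nat.card ρ.ker := by
      rw [← hR.cS]
      exact Subgroup.card_dvd_of_le fun s hs => hR.ρN s (hR.SN hs)
    rw [← h1, H847.JTwoOdd.card_of hR.iso, show 9 = 7 + 2 from rfl, pow_add]
    exact mul_dvd_mul h2 (by norm_num)
  have hz : ∀ {y : ↥(centralizer ({(x : MG)} : Set MG))}, y ∈ zpowers (self (x : MG)) → (centralizer ({(x : MG)} : Set MG)).subtype y ∈ zpowers (x : MG) := by
    intro y hy
    obtain ⟨k, rfl⟩ := Subgroup.mem_zpowers_iff.1 hy
    exact Subgroup.mem_zpowers_iff.2 ⟨k, by rw [map_zpow]; rfl⟩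
  -- the 5-subgroup
  obtain ⟨T0⟩ : Nonempty (Sylow 5 ↥(centralizer ({g} : Set MG))) := inferInstance
  have hT : IsPGroup 5 ↥((T0 : Subgroup ↥(centralizer ({g} : Set MG))).map (centralizer ({g} : Set MG)).subtype) :=
    T0.2.map _
  have key := Iso.part_le (p := 5) (y := (x : MG)) (N := S.map (centralizer ({(x : MG)} : Set MG)).subtype) (D := centralizer ({(x : MG)} : Set MG))
    (T := (T0 : Subgroup ↥(centralizer ({g} : Set MG))).map (centralizer ({g} : Set MG)).subtype)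
    (by rw [hSD]; exact hR.Sn)
    (by
      intro h1
      have h2 : 5 ^ 10 ∣ Nat.card MG := by
        rw [← (centralizer ({(x : MG)} : Set MG)).card_mul_index, pow_succ]
        exact mul_dvd_mul h9 h1
      rw [card_M] at h2
      norm_num at h2)
    ⟨self (x : MG), hR.xS, rfl⟩
    (by
      rintro _ ⟨n, -, rfl⟩
      exact mem_centralizer_singleton_iff.1 n.2)
    (by
      rintro _ ⟨s, hs, rfl⟩ h
      apply hz
      refine hR.center_le hna hs fun b hb => ?_
      have h1 := h _ ⟨b, hb, rfl⟩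
      apply hιi
      rw [map_mul, map_mul]
      exact h1.symm)
    (by
      rintro _ ⟨s, hs, rfl⟩ _ ⟨t, ht, rfl⟩
      obtain ⟨i, hi⟩ := hR.rad.comm (by norm_num) (hR.SN hs) (hR.SN ht)
      have h1 : s * t * s⁻¹ * t⁻¹ = (self (x : MG)) ^ i := by
        have h2 : (self (x : MG)) ^ i * t = t * (self (x : MG)) ^ i :=
          (Commute.zpow_left (show Commute (self (x : MG)) t from (hR.rad.xc t).symm) i)
        rw [hi, ← h2, mul_inv_cancel_right]
      have h3 := hz (y := s * t * s⁻¹ * t⁻¹) (by rw [h1]; exact Subgroup.zpow_mem_zpowers _ i)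
      rw [map_mul, map_mul, map_mul, map_inv, map_inv] at h3
      exact h3)
    hT
    (by
      rintro _ ⟨t, -, rfl⟩ h hh
      exact no_conj Nat.prime_five hxo (fun g hg hgx => ev_five_zero L.ox L.fx hg hgx) hg he
        (mem_centralizer_singleton_iff.1 t.2) h hh)
    (n := 3) (m := 2)
    (by
      rw [hSD]
      intro h1
      have h2 : 5 ^ 3 * 5 ^ 7 ∣ 5 ^ 7 * (604800 * 2) := by
        refine Dvd.dvd.trans ?_ hDc
        rw [← hSx]
        exact mul_dvd_mul h1 dvd_rfl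
      norm_num at h2)
    (by
      rw [hSc, hxo]
      norm_num)
  intro h6
  have h1 := T0.pow_dvd_card_of_pow_dvd_card h6
  rw [← Subgroup.card_map_of_injective (K := (T0 : Subgroup ↥(centralizer ({g} : Set MG))))
    (centralizer ({g} : Set MG)).subtype_injective] at h1
  exact absurd (h1.trans key) (by norm_num)

end Cfsg.Agent.H562.OreM.ThreeOdd
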