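import Cfsg.Agent.H562.OreM.TOddA
import Cfsg.Agent.H537.OreM.SevEven

/-!
# The Monster: elements of order 3 with centralizers of odd order, II: the prime 7 (helper562)

* `not_three_N` : `3 ∤ |N|`, if `z` is the only involution of `C(z) ∩ D` (up to `1`), `16 ∣ |D|` and `3 ^ 8 ∤ |N|`;
* `exists_w` : the 7-central element; the elements of order 3 of `C(w)` commute with conjugates of `z`;
* `not_seven` : `7 ^ 6 ∤ |C(g)|`.
-/

set_option autoImplicit false
set_option maxRecDepth 100000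

namespace Cfsg.Agent.H562.OreM.ThreeOdd

open Cfsg Cfsg.Agent.MonsterX Cfsg.Agent.MonsterX.InstData Cfsg.Agent.MonsterX.MainPack Cfsg.Agent.MonsterU
open Cfsg.Agent.MonsterP Cfsg.Agent.MonsterN Cfsg.Agent.LThreeMB
open Cfsg.Agent.MonsterX.MainBasic Cfsg.Agent.MonsterX.MainSimple Cfsg.Agent.MonsterX.Model
open Cfsg.Agent.MonsterU.Lam2 Cfsg.Agent.MonsterU.TwoCls
open Cfsg.Agent.BpSpor.MBigModel Cfsg.Agent.H199.NSmMon
open Cfsg.Spor (Co1)
open Subgroup (centralizer zpowers mem_centralizer_singleton_iff center)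

section abs

variable {D : Type*} [Group D] [Finite D] {z x : D} {N : Subgroup D} {A : Type*} [Group A]
    {f : ↥(centralizer ({z} : Set D)) →* A}

/-- a Sylow 2-subgroup with the only involution `z` -/
theorem exists_syl (hz2 : orderOf z = 2) (hz : ∀ s : D, s * s = 1 → s * z = z * s → s = 1 ∨ s = z) :
    ∃ B : Sylow 2 D, ∀ b ∈ B, b ≠ 1 → ∃ k : ℕ, b ^ k = z := by
  have h2 : Fact (Nat.Prime 2) := ⟨Nat.prime_two⟩
  have hzp : IsPGroup 2 ↥(zpowers z) := IsPGroup.of_card (n := 1) (by rw [Nat.card_zpowers, hz2, pow_one])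
  obtain ⟨B, hB⟩ := hzp.exists_le_sylow
  have hzB : z ∈ (B : Subgroup D) := hB (Subgroup.mem_zpowers z)
  have hz1 : z ≠ 1 := by
    rintro rfl
    rw [orderOf_one] at hz2
    norm_num at hz2
  -- `z` is central in `B`
  have hnt : Nontrivial ↥(B : Subgroup D) := ⟨⟨⟨z, hzB⟩, 1, fun h => hz1 (congrArg Subtype.val h)⟩⟩
  have hc : Nontrivial ↥(center ↥(B : Subgroup D)) := B.isPGroup'.center_nontrivial
  have hcp : IsPGroup 2 ↥(center ↥(B : Subgroup D)) := B.isPGroup'.to_subgroup _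
  have hd : 2 ∣ Nat.card ↥(center ↥(B : Subgroup D)) := by
    obtain ⟨n, hn⟩ := IsPGroup.iff_card.1 hcp
    rw [hn]
    refine dvd_pow_self 2 ?_
    rintro rfl
    rw [pow_zero] at hn
    have := (Finite.one_lt_card_iff_nontrivial (α := ↥(center ↥(B : Subgroup D)))).2 hc
    omega
  obtain ⟨c, hc⟩ := exists_prime_orderOf_dvd_card' 2 hd
  have hco : orderOf ((c : ↥(B : Subgroup D)) : D) = 2 := by rw [Subgroup.orderOf_coe, Subgroup.orderOf_coe, hc]
  have hcc : ∀ b ∈ (B : Subgroup D), b * ((c : ↥(B : Subgroup D)) : D) = ((c : ↥(B : Subgroup D)) : D) * b :=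
    fun b hb => congrArg Subtype.val ((Subgroup.mem_center_iff.1 c.2) ⟨b, hb⟩)
  generalize ((c : ↥(B : Subgroup D)) : D) = e at hco hcc
  have he : e = z := by
    rcases hz e (by rw [← pow_two, ← hco, pow_orderOf_eq_one]) (hcc z hzB).symm with h | h
    · rw [h, orderOf_one] at hco
      norm_num at hco
    · exact h
  subst he
  refine ⟨B, fun b hb hb1 => ?_⟩
  obtain ⟨j, hj⟩ := B.2 ⟨b, hb⟩
  have hj' : b ^ 2 ^ j = 1 := congrArg Subtype.val hj
  obtain ⟨k, hk, hbk⟩ := (Nat.dvd_prime_pow Nat.prime_two).1 (orderOf_dvd_of_pow_eq_one hj')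
  have hk0 : k ≠ 0 := by
    rintro rfl
    rw [pow_zero, orderOf_eq_one_iff] at hbk
    exact hb1 hbk
  obtain ⟨k, rfl⟩ := Nat.exists_eq_succ_of_ne_zero hk0
  refine ⟨2 ^ k, ?_⟩
  rcases hz (b ^ 2 ^ k) (by rw [← pow_two, ← pow_mul, ← pow_succ, ← Nat.succ_eq_add_one, ← hbk, pow_orderOf_eq_one])
    (hcc _ (Subgroup.pow_mem _ hb _)) with h | h
  · exfalso
    have h1 := orderOf_dvd_of_pow_eq_one h
    rw [hbk] at h1
    have h3 := (Nat.pow_dvd_pow_iff_le_right (by norm_num : 1 < 2)).1 h1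
    omega
  · exact h

/-- **`3 ∤ |N|`** -/
theorem not_three_N {p : ℕ} [hp : Fact p.Prime] [hA : IsSimpleGroup A] (hAc : ¬ Group.IsSolvable A)
    (h : BpSpor.M5.Rad p z x N f) (hp2 : p ≠ 2) (hp3 : 3 ≠ p)
    (hz : ∀ s : D, s * s = 1 → s * z = z * s → s = 1 ∨ s = z) (h16 : 2 ^ 4 ∣ Nat.card D) (h7 : 7 ∣ Nat.card A)
    (h8 : ¬ 3 ^ 8 ∣ Nat.card ↥N) : ¬ 3 ∣ Nat.card ↥N := by
  intro hd
  have h3f : Fact (Nat.Prime 3) := ⟨Nat.prime_three⟩
  have h2f : Fact (Nat.Prime 2) := ⟨Nat.prime_two⟩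
  have h7f : Fact (Nat.Prime 7) := ⟨by norm_num⟩
  have hz2 : orderOf z = 2 := orderOf_eq_prime (by rw [pow_two]; exact h.zz) h.z1
  obtain ⟨R, hRn, hRN, hRp, hRk, hcop, hNC⟩ := H58.MonFiveB.exists_R' h hp2 Nat.prime_three hp3
  obtain ⟨B, hB⟩ := exists_syl hz2 hz
  have hR3 : 3 ∣ Nat.card ↥R := by
    have := hRk 1 (by rw [pow_one]; exact hd)
    rwa [pow_one] at this
  have hRo : Odd (Nat.card ↥R) := by
    obtain ⟨j, hj⟩ := IsPGroup.iff_card.1 hRp
    rw [hj]
    exact Odd.pow (by decide)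
  -- `z` commutes with no element of `R`
  have hzr : ∀ r ∈ R, z * r = r * z → r = 1 := by
    intro r hr hrz
    have h1 := H58.MonFiveB.z_inv h hp2 hRn hRN hcop hr
    rw [hrz, mul_inv_cancel_right] at h1
    have h2 : r ^ 2 = 1 := by
      rw [pow_two]
      nth_rewrite 1 [h1]
      exact inv_mul_cancel r
    have h3 : orderOf r ∣ 2 := orderOf_dvd_of_pow_eq_one h2
    have h4 : orderOf r ∣ Nat.card ↥R := by
      rw [← Subgroup.orderOf_mk r hr]
      exact orderOf_dvd_natCard _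
    rcases (Nat.dvd_prime Nat.prime_two).1 h3 with h5 | h5
    · exact orderOf_eq_one_iff.1 h5
    · rw [h5] at h4
      exact absurd (even_iff_two_dvd.2 h4) (Nat.not_even_iff_odd.2 hRo)
  have h1 : Nat.card ↥(B : Subgroup D) ∣ Nat.card ↥R - 1 := by
    refine free_dvd (fun b _ r hr => hRn.conj_mem r hr b) fun b hb hb1 r hr hbr => ?_
    obtain ⟨k, hk⟩ := hB b hb hb1
    apply hzr r hr
    rw [← hk]
    exact ((show Commute b r from hbr).pow_left k).eq
  have h2 : 2 ^ 4 ∣ Nat.card ↥R - 1 := (B.pow_dvd_card_of_pow_dvd_card h16).trans h1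
  obtain ⟨j, hj⟩ := IsPGroup.iff_card.1 hRp
  have hj7 : j ≤ 7 := by
    by_contra hcon
    apply h8
    refine (pow_dvd_pow 3 (by omega : 8 ≤ j)).trans ?_
    rw [← hj]
    exact Subgroup.card_dvd_of_le hRN
  rw [hj] at h2
  have hj4 : j = 4 := by
    have h0 : j ≠ 0 := by
      rintro rfl
      rw [hj, pow_zero] at hR3
      norm_num at hR3
    interval_cases j
    · exact absurd rfl h0
    · norm_num at h2
    · norm_num at h2
    · norm_num at h2
    · rfl
    · norm_num at h2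
    · norm_num at h2
    · norm_num at h2
  -- the elements of order 7
  have hfA : Finite A := Finite.of_surjective f h.surj
  obtain ⟨a, ha⟩ := exists_prime_orderOf_dvd_card' (G := A) 7 h7
  obtain ⟨c₀, hc₀⟩ := h.surj a
  obtain ⟨e, m, hm, hm2⟩ := Nat.exists_eq_pow_mul_and_not_dvd (n := orderOf c₀) (orderOf_pos c₀).ne' 7 (by norm_num)
  have g1 : f (c₀ ^ m) ≠ 1 := by
    rw [map_pow, hc₀]
    intro h2
    exact hm (ha ▸ orderOf_dvd_of_pow_eq_one h2)
  have g2 : ((c₀ ^ m : ↥(centralizer ({z} : Set D))) : D) ^ 7 ^ e = 1 := by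
    have h3 : (c₀ ^ m) ^ 7 ^ e = 1 := by
      rw [← pow_mul, mul_comm, ← hm2, pow_orderOf_eq_one]
    exact congrArg Subtype.val h3
  have g3 : ((c₀ ^ m : ↥(centralizer ({z} : Set D))) : D) ∈ centralizer (R : Set D) := by
    rw [Subgroup.mem_centralizer_iff]
    intro g hg
    have h4 := H794.MonSec.acts_trivially_pow (p := 3) (q := 7) (m := 4) (by norm_num)
      (by intro i h1 h2; interval_cases i <;> norm_num) hRp (by rw [hj, hj4]) g2
      (fun g hg => hRn.conj_mem g hg _) g hg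
    rw [mul_inv_eq_iff_eq_mul] at h4
    exact h4.symm
  have hCn : (centralizer (R : Set D)).Normal := inferInstance
  have g4 := H199.AbRad.not_solvable_of_mem h hAc (centralizer (R : Set D)) g3 g1
  -- an involution of `C(R)`
  have g5 : 2 ∣ Nat.card ↥(centralizer (R : Set D)) := by
    by_contra hcon
    apply g4
    refine S0205.result ?_
    rw [← Nat.not_even_iff_odd, even_iff_two_dvd]
    exact hcon
  obtain ⟨t, ht⟩ := exists_prime_orderOf_dvd_card' 2 g5
  have hto : orderOf (t : D) = 2 := by rw [Subgroup.orderOf_coe, ht]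
  obtain ⟨g, hg⟩ := J2Type.SylowFive.exists_conj_mem_sylow B (y := (t : D)) (n := 1) (by rw [hto, pow_one])
  have hgt : orderOf (g * (t : D) * g⁻¹) = 2 := by
    rw [← hto]
    exact orderOf_injective (MulAut.conj g).toMonoidHom (MulAut.conj g).injective _
  obtain ⟨k, hk⟩ := hB _ hg (by
    intro h1
    rw [h1, orderOf_one] at hgt
    norm_num at hgt)
  have g6 : z ∈ centralizer (R : Set D) := by
    rw [← hk]
    exact Subgroup.pow_mem _ (hCn.conj_mem _ t.2 g) k
  obtain ⟨⟨s, hs⟩, hso⟩ := exists_prime_orderOf_dvd_card' 3 hR3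
  rw [Subgroup.orderOf_mk] at hso
  have g7 := hzr s hs (Subgroup.mem_centralizer_iff.1 g6 s hs).symm
  rw [g7, orderOf_one] at hso
  norm_num at hso

end abs

/-! ### The 7-central element -/

/-- **The 7-central element.** -/
theorem exists_w : ∃ w : centralizer ({zz} : Set MG), orderOf w = 7 ∧
    ¬ 3 ∣ (centralizer ({zD w} : Set ↥(centralizer ({(w : MG)} : Set MG)))).index := by
  have hfin := finite
  have h7 : Nat.Prime 7 := by norm_num
  have h7' : Fact (Nat.Prime 7) := ⟨h7⟩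
  have h2f : Fact (Nat.Prime 2) := ⟨Nat.prime_two⟩
  obtain ⟨y, v, s', a, c, w, hL, h5⟩ := H961.SevM.exists_data'
  obtain ⟨Q, hQ, -⟩ := H961.SevM.exists_qq hL h5
  have hwo' : orderOf (w : MG) = 7 := orderOf_eq_prime hL.w7 hL.w1
  have hwo : orderOf w = 7 := by rw [← Subgroup.orderOf_coe, hwo']
  have hfr : fr (pi w) = 1 := H961.SevM.fr_eq_one hL h5 hwo
  refine ⟨w, hwo, ?_⟩
  have hx7 : w ^ 7 = 1 := by rw [← hwo, pow_orderOf_eq_one]
  obtain ⟨hs, -, hc⟩ := Cfsg.Agent.H961.SevX.xx_facts (MFive.orderOf_pi chart h7 (by decide) hwo) hfr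
  have hns : ¬ Group.IsSolvable (XX (pi w)) := not_solvable hs hc (by norm_num) (by norm_num)
  have hz := BpRankZero.Seven.only_zD KDone.lft LThreeB.Row.cent hx7 hfr
  obtain ⟨N, hN⟩ := BpSpor.M5.exists_rad chart (by norm_num) hwo hfr
    (fun d hd hc => by
      have h1 := hz ⟨d * zz * d⁻¹, mem_centralizer_singleton_iff.2 (by
        have h2 : (w : MG) * zz = zz * w := mem_centralizer_singleton_iff.1 w.2
        calc d * zz * d⁻¹ * (w : MG) = d * zz * (d⁻¹ * (w * d)) * d⁻¹ := by group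
          _ = d * zz * (d⁻¹ * (d * w)) * d⁻¹ := by rw [hd]
          _ = d * (zz * w) * d⁻¹ := by group
          _ = d * (w * zz) * d⁻¹ := by rw [h2]
          _ = (d * w) * zz * d⁻¹ := by group
          _ = (w * d) * zz * d⁻¹ := by rw [hd]
          _ = (w : MG) * (d * zz * d⁻¹) := by group)⟩
        (Subtype.ext (by
          show d * zz * d⁻¹ * (d * zz * d⁻¹) = 1
          calc d * zz * d⁻¹ * (d * zz * d⁻¹) = d * (zz * zz) * d⁻¹ := by group
            _ = 1 := by rw [zz_sq]; group)) (Subtype.ext hc)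
      rcases h1 with h1 | h1
      · exfalso
        have h2 : d * zz * d⁻¹ = 1 := congrArg Subtype.val h1
        rw [conj_eq_one_iff] at h2
        exact zz_ne h2
      · exact congrArg Subtype.val h1) hs (by rw [hc]; decide)
  have hNn := hN.nN
  -- `Q ≤ N`
  have hfree := H609.Inv.Seven.free_chart chart hQ hwo hfr
  have hzw : zz * (w : MG) = w * zz := (mem_centralizer_singleton_iff.1 w.2).symm
  have hQN : ∀ q (hq : q ∈ Q), (⟨q, hQ.le hq⟩ : ↥(centralizer ({(w : MG)} : Set MG))) ∈ N := by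
    intro q hq
    obtain ⟨j, hj⟩ := H609.Inv.Seven.inverts hQ hwo' zz_sq hzw hfree hq
    obtain ⟨n, hn, e, hez, hg⟩ := hN.sup ⟨q, hQ.le hq⟩
    -- `z q z⁻¹ q⁻¹ ∈ N`
    have h1 : zD w * (⟨q, hQ.le hq⟩ : ↥(centralizer ({(w : MG)} : Set MG))) * (zD w)⁻¹ *
        (⟨q, hQ.le hq⟩ : ↥(centralizer ({(w : MG)} : Set MG)))⁻¹ ∈ N := by
      rw [hg]
      have h2 : zD w * (n * e) * (zD w)⁻¹ * (n * e)⁻¹ = (zD w * n * (zD w)⁻¹) * n⁻¹ := by
        have h3 : zD w * e = e * zD w := hez.symm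
        calc zD w * (n * e) * (zD w)⁻¹ * (n * e)⁻¹ = zD w * n * (e * (zD w)⁻¹ * e⁻¹) * n⁻¹ := by group
          _ = zD w * n * ((zD w)⁻¹ * (zD w * e) * (zD w)⁻¹ * e⁻¹) * n⁻¹ := by group
          _ = zD w * n * ((zD w)⁻¹ * (e * zD w) * (zD w)⁻¹ * e⁻¹) * n⁻¹ := by rw [h3]
          _ = _ := by group
      rw [h2]
      exact N.mul_mem (hNn.conj_mem n hn _) (N.inv_mem hn)
    have h2 : (zD w * (⟨q, hQ.le hq⟩ : ↥(centralizer ({(w : MG)} : Set MG))) * (zD w)⁻¹ *
        (⟨q, hQ.le hq⟩ : ↥(centralizer ({(w : MG)} : Set MG)))⁻¹) =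
        (⟨q, hQ.le hq⟩ : ↥(centralizer ({(w : MG)} : Set MG)))⁻¹ * (self (w : MG)) ^ j *
          (⟨q, hQ.le hq⟩ : ↥(centralizer ({(w : MG)} : Set MG)))⁻¹ := by
      apply Subtype.ext
      change zz * q * zz⁻¹ * q⁻¹ = q⁻¹ * (w : MG) ^ j * q⁻¹
      rw [hj]
    rw [h2] at h1
    -- so `q ^ 2 ∈ N`
    have h3 : (⟨q, hQ.le hq⟩ : ↥(centralizer ({(w : MG)} : Set MG))) ^ 2 ∈ N := by
      have h4 := N.mul_mem (N.zpow_mem hN.xN j) (N.inv_mem h1)
      have hcj : Commute ((self (w : MG)) ^ j) (⟨q, hQ.le hq⟩ : ↥(centralizer ({(w : MG)} : Set MG))) :=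
        (show Commute (self (w : MG)) _ from (hN.xc _).symm).zpow_left j
      have h5 : self (w : MG) ^ j * ((⟨q, hQ.le hq⟩ : ↥(centralizer ({(w : MG)} : Set MG)))⁻¹ * (self (w : MG)) ^ j *
          (⟨q, hQ.le hq⟩ : ↥(centralizer ({(w : MG)} : Set MG)))⁻¹)⁻¹ =
          (⟨q, hQ.le hq⟩ : ↥(centralizer ({(w : MG)} : Set MG))) ^ 2 := by
        rw [pow_two]
        calc self (w : MG) ^ j * ((⟨q, hQ.le hq⟩ : ↥(centralizer ({(w : MG)} : Set MG)))⁻¹ * (self (w : MG)) ^ j *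
            (⟨q, hQ.le hq⟩ : ↥(centralizer ({(w : MG)} : Set MG)))⁻¹)⁻¹
            = (self (w : MG) ^ j * (⟨q, hQ.le hq⟩ : ↥(centralizer ({(w : MG)} : Set MG)))) * (self (w : MG) ^ j)⁻¹ *
              (⟨q, hQ.le hq⟩ : ↥(centralizer ({(w : MG)} : Set MG))) := by group
          _ = _ := by rw [hcj.eq]; group
      rwa [h5] at h4
    -- odd order
    obtain ⟨k, hk⟩ := hQ.pgroup ⟨q, hq⟩
    have hk1 : q ^ 7 ^ k = 1 := congrArg Subtype.val hk
    have hk' : (⟨q, hQ.le hq⟩ : ↥(centralizer ({(w : MG)} : Set MG))) ^ 7 ^ k = 1 := Subtype.ext hk1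
    obtain ⟨l, hl⟩ : Odd (7 ^ k) := Odd.pow (by decide)
    have h6 : (⟨q, hQ.le hq⟩ : ↥(centralizer ({(w : MG)} : Set MG))) =
        ((⟨q, hQ.le hq⟩ : ↥(centralizer ({(w : MG)} : Set MG))) ^ 2) ^ (-(l : ℤ)) := by
      rw [hl, pow_succ, pow_mul] at hk'
      rw [zpow_neg, zpow_natCast]
      exact eq_inv_of_mul_eq_one_right hk'
    rw [h6]
    exact N.zpow_mem h3 _
  -- elements central in `N` commute with `Q`
  have hcent : ∀ m : ↥(centralizer ({(w : MG)} : Set MG)), (∀ n ∈ N, n * m = m * n) →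
      7 ^ 5 ∣ Nat.card ↥(centralizer ({(m : MG)} : Set MG)) := by
    intro m hm
    rw [← hQ.card]
    apply Subgroup.card_dvd_of_le
    intro q hq
    rw [mem_centralizer_singleton_iff]
    exact congrArg Subtype.val (hm _ (hQN q hq))
  have h3 : ¬ 3 ^ (7 + 1) ∣ Nat.card ↥N := by
    intro hd
    obtain ⟨R, -, hRN, -, hRk, -, hRc⟩ := H58.MonFiveB.exists_R' hN (by norm_num) Nat.prime_three (by norm_num)
    have h1 := hRk 8 hd
    rw [← Subgroup.card_map_of_injective (K := R) (centralizer ({(w : MG)} : Set MG)).subtype_injective] at h1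
    obtain ⟨y, hyR, hy, he⟩ := H537.OreM.exists_three h1
    obtain ⟨y', hy', rfl⟩ := hyR
    exact H537.OreM.three_seven hy he (hcent y' fun n hn => hRc n hn y' hy')
  -- the orders
  obtain ⟨m, hm, hcm⟩ := hN.card_N_mul hns
  rw [hc] at hcm
  have hsurj : Function.Surjective (toXX pi w) := hN.surj
  have hK2 : 2 * 2520 ∣ Nat.card ↥(centralizer ({zD w} : Set ↥(centralizer ({(w : MG)} : Set MG)))) := by
    have e1 : Nat.card ↥(toXX pi w).ker * Nat.card (XX (pi w)) =
        Nat.card ↥(centralizer ({zD w} : Set ↥(centralizer ({(w : MG)} : Set MG)))) := by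
      rw [← Subgroup.card_mul_index (toXX pi w).ker, Subgroup.index_ker, MonoidHom.range_eq_top.2 hsurj,
        Subgroup.card_top]
    rw [← e1, hc]
    refine mul_dvd_mul ?_ dvd_rfl
    -- `z` is in the kernel
    let z' : ↥(centralizer ({zD w} : Set ↥(centralizer ({(w : MG)} : Set MG)))) :=
      ⟨zD w, mem_centralizer_singleton_iff.2 rfl⟩
    have hzc : toXX pi w z' ∈ center (XX (pi w)) := by
      rw [Subgroup.mem_center_iff]
      intro u
      obtain ⟨u, rfl⟩ := hsurj u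
      rw [← map_mul, ← map_mul]
      congr 1
      exact Subtype.ext (mem_centralizer_singleton_iff.1 u.2)
    have hzk : z' ∈ (toXX pi w).ker := by
      rw [MonoidHom.mem_ker]
      rcases (inferInstance : (center (XX (pi w))).Normal).eq_bot_or_eq_top with h1 | h1
      · rw [h1] at hzc
        exact Subgroup.mem_bot.1 hzc
      · exfalso
        apply hns
        have hcomm : ∀ a b : XX (pi w), a * b = b * a := by
          intro a b
          have h2 : a ∈ center (XX (pi w)) := by rw [h1]; exact Subgroup.mem_top a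
          exact (Subgroup.mem_center_iff.1 h2 b).symm
        exact Group.isSolvable_of_comm hcomm
    have hz'o : orderOf (⟨z', hzk⟩ : ↥(toXX pi w).ker) = 2 := by
      rw [Subgroup.orderOf_mk, Subgroup.orderOf_mk]
      exact orderOf_eq_prime (by rw [pow_two]; exact hN.zz) hN.z1
    rw [← hz'o]
    exact orderOf_dvd_natCard _
  have h16 : 2 ^ 4 ∣ Nat.card ↥(centralizer ({(w : MG)} : Set MG)) :=
    (show 2 ^ 4 ∣ 2 * 2520 by norm_num).trans (hK2.trans (Subgroup.card_subgroup_dvd_card _))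
  have h3N := not_three_N hns hN (by norm_num) (by norm_num) hz h16 (by rw [hc]; norm_num) h3
  -- the index
  intro h3i
  have e1 := (centralizer ({zD w} : Set ↥(centralizer ({(w : MG)} : Set MG)))).card_mul_index
  obtain ⟨k, hk⟩ := hK2
  rw [hcm, hk] at e1
  have e2 : 3 ∣ Nat.card ↥N * m := by
    have e3 : 2520 * (2 * k * (centralizer ({zD w} : Set ↥(centralizer ({(w : MG)} : Set MG)))).index) =
        2520 * (Nat.card ↥N * m) := by
      calc 2520 * (2 * k * (centralizer ({zD w} : Set ↥(centralizer ({(w : MG)} : Set MG)))).index) =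
          2 * 2520 * k * (centralizer ({zD w} : Set ↥(centralizer ({(w : MG)} : Set MG)))).index := by ring
        _ = Nat.card ↥N * (2520 * m) := e1
        _ = _ := by ring
    rw [← Nat.eq_of_mul_eq_mul_left (by norm_num) e3]
    exact h3i.mul_left _
  rcases (Nat.Prime.dvd_mul Nat.prime_three).1 e2 with h | h
  · exact h3N h
  · exact absurd (h.trans hm) (by norm_num)

/-- the index of the centralizer of `z` is prime to `p` -/
theorem ev_of_index {x : centralizer ({zz} : Set MG)} {p : ℕ} (hp : p.Prime)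
    (hi : ¬ p ∣ (centralizer ({zD x} : Set ↥(centralizer ({(x : MG)} : Set MG)))).index) {g : MG}
    (hg : orderOf g = p) (hgx : g * x = x * g) : Ev g := by
  have := finite
  have hpf : Fact p.Prime := ⟨hp⟩
  obtain ⟨d, hd⟩ := H533.T5.exists_conj_mem_of_index hi
    (x := (⟨g, mem_centralizer_singleton_iff.2 hgx⟩ : ↥(centralizer ({(x : MG)} : Set MG))))
    (by rw [Subgroup.orderOf_mk, hg])
  have h1 : ((d : MG) * g * (d : MG)⁻¹) * zz = zz * ((d : MG) * g * (d : MG)⁻¹) :=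
    congrArg Subtype.val (mem_centralizer_singleton_iff.1 hd)
  have h2 : Ev ((d : MG) * g * (d : MG)⁻¹) := ⟨1, by rw [one_mul, inv_one, mul_one]; exact h1.symm⟩
  have h3 := h2.conj (d : MG)⁻¹
  have h4 : (d : MG)⁻¹ * ((d : MG) * g * (d : MG)⁻¹) * (d : MG)⁻¹⁻¹ = g := by group
  rwa [h4] at h3

/-- **`7 ^ 6 ∤ |C(g)|`** -/
theorem not_seven {g : MG} (hg : orderOf g = 3) (he : ¬ Ev g) :
    ¬ 7 ^ 6 ∣ Nat.card ↥(centralizer ({g} : Set MG)) := by
  have := finite
  have h7 : Fact (Nat.Prime 7) := ⟨by norm_num⟩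
  intro hd
  obtain ⟨w, hw, hi⟩ := exists_w
  have h1 : ¬ 7 ∣ (centralizer ({g} : Set MG)).index := by
    intro h2
    have h3 : 7 ^ 6 * 7 ∣ Nat.card MG := by
      rw [← (centralizer ({g} : Set MG)).card_mul_index]
      exact mul_dvd_mul hd h2
    rw [card_M] at h3
    norm_num at h3
  obtain ⟨h, hh⟩ := H533.T5.exists_conj_mem_of_index h1 (x := (w : MG)) (by rw [Subgroup.orderOf_coe, hw])
  have h2 := mem_centralizer_singleton_iff.1 hh
  apply he
  have h3 : (h⁻¹ * g * h) * w = w * (h⁻¹ * g * h) := by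
    calc (h⁻¹ * g * h) * w = h⁻¹ * (g * (h * w * h⁻¹)) * h := by group
      _ = h⁻¹ * ((h * w * h⁻¹) * g) * h := by rw [h2]
      _ = _ := by group
  have h4 : Ev (h⁻¹ * g * h) := ev_of_index Nat.prime_three hi (by
    have := orderOf_injective (MulAut.conj h⁻¹).toMonoidHom (MulAut.conj h⁻¹).injective g
    rw [← hg, ← this]
    show orderOf (h⁻¹ * g * h) = orderOf (h⁻¹ * g * h⁻¹⁻¹)
    rw [inv_inv]) h3
  have h5 := h4.conj h
  have h6 : h * (h⁻¹ * g * h) * h⁻¹ = g := by group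
  rwa [h6] at h5

end Cfsg.Agent.H562.OreM.ThreeOdd
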