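import Cfsg.Agent.H562.OreM.TOddF
import Cfsg.Agent.H562.OreM.TOddS

/-!
# The Monster: elements of order 3 with centralizers of odd order, IV (helper562)

* `three_odd` : `|C(g)|` divides `3 ^ 20 5 ^ 5 7 ^ 5`, `3 ^ 20 5 ^ 5 11 ^ 2` or `3 ^ 20 5 ^ 5 7 13 ^ 3`;
* `three_odd_bound` : `|C(g)| ≤ 2 · 10 ^ 17`;
* `three_odd_le` : if `3 ^ 18 ∤ |C(g)|`, then `|C(g)| ≤ 6.8 · 10 ^ 15`.
-/

set_option autoImplicit false
set_option maxRecDepth 100000

namespace Cfsg.Agent.H562.OreM.ThreeOdd

open Cfsg Cfsg.Agent.MonsterX Cfsg.Agent.MonsterX.InstData Cfsg.Agent.MonsterX.MainPack Cfsg.Agent.MonsterU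
open Cfsg.Agent.MonsterP Cfsg.Agent.MonsterN Cfsg.Agent.LThreeMB
open Cfsg.Agent.MonsterX.MainBasic Cfsg.Agent.MonsterX.MainSimple Cfsg.Agent.MonsterX.Model
open Cfsg.Agent.MonsterU.Lam2 Cfsg.Agent.MonsterU.TwoCls
open Cfsg.Agent.BpSpor.MBigModel Cfsg.Agent.H199.NSmMon
open Cfsg.Spor (Co1)
open Subgroup (centralizer zpowers mem_centralizer_singleton_iff center)
open Cfsg.Agent.H537.OreM (step dvd_card no_pow)

/-- **Elements of order 3 of the Monster with centralizers of odd order.** -/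
theorem three_odd (hK : H995.CopEngine.AllKnown.{0}) (hS : H715.Mon.Grp.SThree.{0}) {g : MG} (hg : orderOf g = 3)
    (ho : ∀ t : MG, orderOf t = 2 → t * g ≠ g * t) :
    Nat.card ↥(centralizer ({g} : Set MG)) ∣ 3 ^ 20 * (5 ^ 5 * 7 ^ 5) ∨
      Nat.card ↥(centralizer ({g} : Set MG)) ∣ 3 ^ 20 * (5 ^ 5 * 11 ^ 2) ∨
      Nat.card ↥(centralizer ({g} : Set MG)) ∣ 3 ^ 20 * (5 ^ 5 * (7 * 13 ^ 3)) := by
  have hfin := finite
  have h2f : Fact (Nat.Prime 2) := ⟨Nat.prime_two⟩
  have he : ¬ Ev g := by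
    rintro ⟨h, hh⟩
    refine ho _ ?_ hh
    rw [← orderOf_zz]
    exact orderOf_injective (MulAut.conj h).toMonoidHom (MulAut.conj h).injective zz
  have h2 : ¬ 2 ∣ Nat.card ↥(centralizer ({g} : Set MG)) := by
    intro hd
    obtain ⟨t, ht⟩ := exists_prime_orderOf_dvd_card' 2 hd
    exact ho (t : MG) (by rw [Subgroup.orderOf_coe, ht]) (mem_centralizer_singleton_iff.1 t.2)
  have hodd : Odd (Nat.card ↥(centralizer ({g} : Set MG))) := by
    rw [← Nat.not_even_iff_odd, even_iff_two_dvd]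
    exact h2
  have hb := fun r hr => not_big hK hS hg he (r := r) hr
  have gl : ∀ {j7 j11 j13 : ℕ}, ¬ 7 ^ (j7 + 1) ∣ Nat.card ↥(centralizer ({g} : Set MG)) →
      ¬ 11 ^ (j11 + 1) ∣ Nat.card ↥(centralizer ({g} : Set MG)) →
      ¬ 13 ^ (j13 + 1) ∣ Nat.card ↥(centralizer ({g} : Set MG)) →
      Nat.card ↥(centralizer ({g} : Set MG)) ∣ 3 ^ 20 * (5 ^ 5 * (7 ^ j7 * (11 ^ j11 * 13 ^ j13))) := by
    intro j7 j11 j13 k7 k11 k13
    have g := dvd_card g
    have g := step (j := 0) (by norm_num) g (no_pow h2)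
    have g := step (j := 20) (by norm_num) g (not_dvd_pow (by norm_num))
    have g := step (j := 5) (by norm_num) g (not_five hg he)
    have g := step (j := j7) (by norm_num) g k7
    have g := step (j := j11) (by norm_num) g k11
    have g := step (j := j13) (by norm_num) g k13
    have g := step (j := 0) (by norm_num) g (no_pow (hb 17 (by simp)))
    have g := step (j := 0) (by norm_num) g (no_pow (hb 19 (by simp)))
    have g := step (j := 0) (by norm_num) g (no_pow (hb 23 (by simp)))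
    have g := step (j := 0) (by norm_num) g (no_pow (hb 29 (by simp)))
    have g := step (j := 0) (by norm_num) g (no_pow (hb 31 (by simp)))
    have g := step (j := 0) (by norm_num) g (no_pow (hb 41 (by simp)))
    have g := step (j := 0) (by norm_num) g (no_pow (hb 47 (by simp)))
    have g := step (j := 0) (by norm_num) g (no_pow (hb 59 (by simp)))
    have g := step (j := 0) (by norm_num) g (no_pow (hb 71 (by simp)))
    refine g.trans (dvd_of_eq ?_)
    ring
  rcases cases_hall hodd with ⟨k7, k13⟩ | ⟨k11, k13⟩ | ⟨k11, k7⟩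
  · right
    left
    have := gl (j7 := 0) (j11 := 2) (j13 := 0) (no_pow k7) (not_dvd_pow (by norm_num)) (no_pow k13)
    simpa using this
  · left
    have := gl (j7 := 5) (j11 := 0) (j13 := 0) (not_seven hg he) (no_pow k11) (no_pow k13)
    simpa using this
  · right
    right
    have := gl (j7 := 1) (j11 := 0) (j13 := 3) k7 (no_pow k11) (not_dvd_pow (by norm_num))
    simpa using this

/-- **the bound** -/
theorem three_odd_bound (hK : H995.CopEngine.AllKnown.{0}) (hS : H715.Mon.Grp.SThree.{0}) {g : MG} (hg : orderOf g = 3)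
    (ho : ∀ t : MG, orderOf t = 2 → t * g ≠ g * t) :
    Nat.card ↥(centralizer ({g} : Set MG)) ≤ 2 * 10 ^ 17 := by
  rcases three_odd hK hS hg ho with h | h | h
  · exact (Nat.le_of_dvd (by norm_num) h).trans (by norm_num)
  · exact (Nat.le_of_dvd (by norm_num) h).trans (by norm_num)
  · exact (Nat.le_of_dvd (by norm_num) h).trans (by norm_num)

theorem le_of_dvd_three {n M : ℕ} (hM : 0 < M) (h : n ∣ 3 ^ 20 * M) (h18 : ¬ 3 ^ 18 ∣ n) : n ≤ 3 ^ 17 * M := by
  have h1 := step (n := n) (A := 1) (p := 3) (k := 20) (j := 17) (m := M) (by norm_num) (by rwa [one_mul]) h18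
  rw [one_mul] at h1
  exact Nat.le_of_dvd (by positivity) h1

/-- **the bound**, with the 3-part -/
theorem three_odd_le (hK : H995.CopEngine.AllKnown.{0}) (hS : H715.Mon.Grp.SThree.{0}) {g : MG} (hg : orderOf g = 3)
    (ho : ∀ t : MG, orderOf t = 2 → t * g ≠ g * t) (h18 : ¬ 3 ^ 18 ∣ Nat.card ↥(centralizer ({g} : Set MG))) :
    Nat.card ↥(centralizer ({g} : Set MG)) ≤ 6800000000000000 := by
  rcases three_odd hK hS hg ho with h | h | h
  · exact (le_of_dvd_three (by norm_num) h h18).trans (by norm_num)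
  · exact (le_of_dvd_three (by norm_num) h h18).trans (by norm_num)
  · exact (le_of_dvd_three (by norm_num) h h18).trans (by norm_num)

end Cfsg.Agent.H562.OreM.ThreeOdd
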